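import Groth.Agent.L01.Unip.Slice
import Groth.Agent.L01.MultConj.Good
import Groth.Agent.L01.UnipSplit.Split
import Groth.Agent.L08.HopfDim
import Groth.Agent.S3018
import Groth.Agent.S5422
import Mathlib.RingTheory.KrullDimension.Polynomial

/-!
# Connected smooth commutative unipotent groups are affine spaces killed by `p ^ dim`
-/

set_option autoImplicit false

universe u

open TensorProduct WithConv Polynomial Groth.L08 Groth.L01.UnipSplit Groth.L01.MultConj
open Groth.L01.SmoothKer (IsPrim)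

noncomputable section

namespace Groth.L01.Unip

variable {k : Type u} [Field k] [IsAlgClosed k]

theorem isHopfIdeal_bot (A : Type u) [CommRing A] [HopfAlgebra k A] : (⊥ : Ideal A).IsHopfIdeal k := by
  refine { toIsCoideal := ⟨fun x hx => ?_, fun x hx => ?_⟩, antipode_mem := fun x hx => ?_ }
  · rw [(Submodule.mem_bot _).1 hx, map_zero]
  · rw [(Submodule.mem_bot _).1 hx, map_zero, map_zero]
  · rw [Ideal.mem_bot.1 hx, map_zero]; exact zero_mem _

theorem isDomain_tensor_self {C : Type u} [CommRing C] [Algebra k C] [IsDomain C] : IsDomain (k ⊗[k] C) :=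
  MulEquiv.isDomain C (Algebra.TensorProduct.lid k C).toMulEquiv

/-- A nontrivial connected smooth commutative unipotent group contains an additive line. -/
theorem exists_line (A : Type u) [CommRing A] [HopfAlgebra k A] [Algebra.FiniteType k A] [IsDomain A]
    [Coalgebra.IsCocomm k A] (hU : HopfRep.IsUnipotent k A)
    (hne : RingHom.ker (Bialgebra.counitAlgHom k A) ≠ ⊥) :
    ∃ (Q : Type u) (_ : CommRing Q) (_ : HopfAlgebra k Q) (p : A →ₐc[k] Q) (e : k[X] ≃ₐ[k] Q),
      Function.Surjective p ∧ IsPrim (k := k) (e X) := by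
  classical
  haveI : IsNoetherianRing A := Algebra.FiniteType.isNoetherianRing k A
  let S : Set (Ideal A) := {I | I.IsHopfIdeal k ∧ I.IsPrime ∧ I ≠ RingHom.ker (Bialgebra.counitAlgHom k A)}
  obtain ⟨I, ⟨hI, hIp, hIne⟩, hmax⟩ := set_has_maximal_iff_noetherian.2 inferInstance S
    ⟨⊥, isHopfIdeal_bot A, Ideal.isPrime_bot, fun h => hne h.symm⟩
  haveI := hI
  haveI := hIp
  let C := A ⧸ I
  let π : A →ₐc[k] C := Bialgebra.Quotient.mkBialgHom I
  have hπs : Function.Surjective π := Ideal.Quotient.mk_surjective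
  haveI : Algebra.FiniteType k C := Algebra.FiniteType.of_surjective (Ideal.Quotient.mkₐ k I) Ideal.Quotient.mk_surjective
  haveI : IsDomain C := Ideal.Quotient.isDomain I
  haveI : Coalgebra.IsCocomm k C := ⟨LinearMap.ext fun y => by
    obtain ⟨x, rfl⟩ := hπs y
    have h : ∀ w : A ⊗[k] A, TensorProduct.comm k C C (TensorProduct.map (π : A →ₗ[k] C) (π : A →ₗ[k] C) w) =
        TensorProduct.map (π : A →ₗ[k] C) (π : A →ₗ[k] C) (TensorProduct.comm k A A w) := by
      intro w
      induction w with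
      | zero => simp
      | add p q hp hq => simp only [map_add, hp, hq]
      | tmul p q => simp
    show TensorProduct.comm k C C (Coalgebra.comul (R := k) (π x)) = Coalgebra.comul (R := k) (π x)
    rw [← CoalgHomClass.map_comp_comul_apply π x, h]
    exact congrArg _ (LinearMap.congr_fun (Coalgebra.IsCocomm.comm_comp_comul (R := k) (A := A)) x)⟩
  have hUC : HopfRep.IsUnipotent k C := (Groth.Agent.S5422.result k A).1 C π hπs hU
  have hker : ∀ x, π x ∈ RingHom.ker (Bialgebra.counitAlgHom k C) ↔ x ∈ RingHom.ker (Bialgebra.counitAlgHom k A) := fun x => by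
    rw [RingHom.mem_ker, RingHom.mem_ker]
    exact Iff.rfl
  have hCne : RingHom.ker (Bialgebra.counitAlgHom k C) ≠ ⊥ := by
    intro h
    refine hIne (le_antisymm (fun x hx => ?_) fun x hx => ?_)
    · exact hI.toIsCoideal.counit_eq_zero hx
    · refine Ideal.Quotient.eq_zero_iff_mem.1 ?_
      have := (hker x).2 hx
      rwa [h, Ideal.mem_bot] at this
  haveI := isDomain_tensor_self (k := k) (C := C)
  obtain ⟨f, hf, hf0, hdom⟩ := exists_good (K := k) hUC hCne
  haveI := isHopfIdeal_span_prim hf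
  have hspan : Ideal.span {f} = RingHom.ker (Bialgebra.counitAlgHom k C) := by
    by_contra hne'
    haveI : IsDomain (C ⧸ Ideal.span {f}) :=
      haveI := hdom
      MulEquiv.isDomain (k ⊗[k] (C ⧸ Ideal.span {f})) (Algebra.TensorProduct.lid k (C ⧸ Ideal.span {f})).symm.toMulEquiv
    haveI : (Ideal.span {f}).IsPrime := (Ideal.Quotient.isDomain_iff_prime _).1 inferInstance
    refine hmax ((Ideal.span {f}).comap (π : A →ₐ[k] C)) ⟨Groth.L01.UnipSplit.isHopfIdeal_comap π _, Ideal.comap_isPrime _ _, fun h => ?_⟩ (lt_of_le_of_ne (fun x hx => ?_) fun h => ?_)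
    · refine hne' ?_
      rw [← Ideal.map_comap_of_surjective (π : A →ₐ[k] C) hπs (Ideal.span {f}), h]
      refine le_antisymm (Ideal.map_le_iff_le_comap.2 fun x hx => (hker x).2 hx) fun y hy => ?_
      obtain ⟨x, rfl⟩ := hπs y
      exact Ideal.mem_map_of_mem _ ((hker x).1 hy)
    · rw [Ideal.mem_comap]
      show π x ∈ _
      rw [show π x = 0 from Ideal.Quotient.eq_zero_iff_mem.2 hx]
      exact zero_mem _
    · obtain ⟨x, rfl⟩ := hπs f
      refine hf0 (Ideal.Quotient.eq_zero_iff_mem.2 ?_)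
      rw [h]
      exact Ideal.mem_span_singleton_self _
  haveI : IsNoetherianRing C := Algebra.FiniteType.isNoetherianRing k C
  haveI : Ring.KrullDimLE 1 C := by
    refine Ring.krullDimLE_iff.2 ?_
    rw [← Groth.L08.HopfDim.height_eq_ringKrullDim k (RingHom.ker (Bialgebra.counitAlgHom k C))]
    have hH : (RingHom.ker (Bialgebra.counitAlgHom k C)).height ≤ 1 := by
      rw [← hspan]
      refine le_trans (Ideal.height_le_spanFinrank _ (by rw [hspan]; exact RingHom.ker_ne_top _)) ?_
      exact_mod_cast (Submodule.spanFinrank_span_le_ncard_of_finite (Set.finite_singleton f)).trans (by simp)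
    exact_mod_cast hH
  obtain ⟨e⟩ := Groth.L01.DimOne.nonempty_equiv_symmetricAlgebra hUC ⟨f, fun h => hf0 (by rw [h, hf.counit, map_zero])⟩
  let o : SymmetricAlgebra k k := SymmetricAlgebra.ι k k 1
  let Ψ : k[X] →ₐ[k] SymmetricAlgebra k k := Polynomial.aeval o
  let L : SymmetricAlgebra k k →ₐ[k] k[X] := SymmetricAlgebra.lift (LinearMap.toSpanSingleton k k[X] X)
  have hLo : L o = X := by simp [L, o]
  have h1 : L.comp Ψ = AlgHom.id k k[X] := Polynomial.algHom_ext (by simp [Ψ, hLo])
  have h2 : Ψ.comp L = AlgHom.id k (SymmetricAlgebra k k) := SymmetricAlgebra.algHom_ext (LinearMap.ext_ring (by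
    show Ψ (L o) = o
    rw [hLo]; simp [Ψ]))
  let e₀ : k[X] ≃ₐ[k] SymmetricAlgebra k k := AlgEquiv.ofAlgHom Ψ L h2 h1
  refine ⟨C, inferInstance, inferInstance, π, e₀.trans e.symm.toAlgEquiv, hπs, ?_⟩
  have he : (e₀.trans e.symm.toAlgEquiv) X = e.symm o := by
    show e.symm (Ψ X) = _
    simp [Ψ]
  show Coalgebra.comul (R := k) _ = _
  rw [he]
  refine (CoalgHomClass.map_comp_comul_apply (e.symm : SymmetricAlgebra k k →ₐc[k] C) o).symm.trans ?_
  rw [show Coalgebra.comul (R := k) o = o ⊗ₜ 1 + 1 ⊗ₜ o from SymmetricAlgebra.comul_ι k k 1, map_add,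
    TensorProduct.map_tmul, TensorProduct.map_tmul]
  show e.symm o ⊗ₜ[k] e.symm 1 + e.symm 1 ⊗ₜ[k] e.symm o = _
  rw [map_one]

/-- Connected smooth commutative unipotent groups of dimension `n` are affine `n`-spaces, killed by `p ^ n`. -/
theorem polynomial_and_pow : ∀ (n : ℕ) (A : Type u) [CommRing A] [HopfAlgebra k A] [Algebra.FiniteType k A]
    [IsDomain A] [Coalgebra.IsCocomm k A], HopfRep.IsUnipotent k A → ringKrullDim A = n →
    Nonempty (A ≃ₐ[k] MvPolynomial (Fin n) k) ∧
      ∀ (p : ℕ) [Fact p.Prime] [CharP k p] (R : Type u) [CommRing R] [Algebra k R] (g : WithConv (A →ₐ[k] R)),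
        g ^ p ^ n = 1 := by
  intro n
  induction n using Nat.strong_induction_on with
  | _ n IH =>
  intro A _ _ _ _ _ hU hdim
  haveI : IsNoetherianRing A := Algebra.FiniteType.isNoetherianRing k A
  by_cases hne : RingHom.ker (Bialgebra.counitAlgHom k A) = ⊥
  · have hbij : Function.Bijective (Bialgebra.counitAlgHom k A) :=
      ⟨(RingHom.injective_iff_ker_eq_bot _).2 hne, fun c => ⟨algebraMap k A c, (Bialgebra.counitAlgHom k A).commutes c⟩⟩
    let e := AlgEquiv.ofBijective (Bialgebra.counitAlgHom k A) hbij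
    obtain rfl : n = 0 := by
      rw [ringKrullDim_eq_of_ringEquiv e.toRingEquiv, ringKrullDim_eq_zero_of_field] at hdim
      exact_mod_cast hdim.symm
    refine ⟨⟨e.trans (MvPolynomial.isEmptyAlgEquiv k (Fin 0)).symm⟩, fun p _ _ R _ _ g => ?_⟩
    rw [pow_zero, pow_one]
    refine WithConv.ofConv_injective (AlgHom.ext fun a => ?_)
    obtain ⟨c, rfl⟩ : ∃ c, algebraMap k A c = a :=
      ⟨e a, hbij.1 (((Bialgebra.counitAlgHom k A).commutes _).trans rfl)⟩
    rw [AlgHom.commutes, AlgHom.commutes]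
  obtain ⟨Q, _, _, π, e, hπ, ht⟩ := exists_line A hU hne
  let I : Ideal A := RingHom.ker (π : A →ₐ[k] Q)
  haveI hI : I.IsHopfIdeal k := by
    haveI := isHopfIdeal_bot (k := k) Q
    exact Groth.L01.UnipSplit.isHopfIdeal_comap π ⊥
  have hN : SGA3.IsNormalHopfIdeal k A I := by
    intro R _ _ g h hh a ha
    have e1 : toConv (Dyn.conv3 k A g h (g.comp (HopfAlgebra.antipodeAlgHom k A))) = toConv h := by
      rw [Groth.L08.toConv_conv3, show toConv (g.comp (HopfAlgebra.antipodeAlgHom k A)) = pinv (toConv g) from rfl,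
        mul_comm (toConv g) (toConv h), mul_assoc, mul_pinv, mul_one]
    rw [WithConv.toConv_injective e1]
    exact hh a ha
  obtain ⟨B, hB, hBff, hIB⟩ := Groth.Agent.S3018.result k A I hN
  letI := Groth.L25.HopfSub.hopfAlgebra hB
  let inc := Groth.L25.HopfSub.inclBialg hB
  have hincinj : Function.Injective inc := Subtype.val_injective
  have hJ : RingHom.ker (π : A →ₐ[k] Q) = Ideal.map (inc : B →+* A) (RingHom.ker (Bialgebra.counitAlgHom k B)) := by
    refine hIB.trans (congrArg Ideal.span (Set.ext fun b => ⟨?_, ?_⟩))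
    · rintro ⟨hb, h0⟩
      exact ⟨⟨b, hb⟩, h0, rfl⟩
    · rintro ⟨⟨b, hb⟩, h0, rfl⟩
      exact ⟨hb, h0⟩
  obtain ⟨Φ⟩ := exists_polynomial_equiv inc hincinj π hπ e ht hJ
  haveI : Algebra.FiniteType k B :=
    Algebra.FiniteType.of_surjective (((Polynomial.aeval (0 : B)).restrictScalars k).comp Φ.symm.toAlgHom)
      fun b => ⟨Φ (C b), by simp⟩
  haveI : IsNoetherianRing B := Algebra.FiniteType.isNoetherianRing k B
  haveI : Coalgebra.IsCocomm k B := ⟨LinearMap.ext fun b => by
    refine TensorProduct.map_injective_of_flat_flat (inc : B →ₗ[k] A) (inc : B →ₗ[k] A) hincinj hincinj ?_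
    have h : ∀ w : B ⊗[k] B, TensorProduct.map (inc : B →ₗ[k] A) (inc : B →ₗ[k] A) (TensorProduct.comm k B B w) =
        TensorProduct.comm k A A (TensorProduct.map (inc : B →ₗ[k] A) (inc : B →ₗ[k] A) w) := by
      intro w
      induction w with
      | zero => simp
      | add p q hp hq => simp only [map_add, hp, hq]
      | tmul p q => simp
    show TensorProduct.map _ _ (TensorProduct.comm k B B (Coalgebra.comul (R := k) b)) = _
    rw [h, CoalgHomClass.map_comp_comul_apply inc b]
    exact LinearMap.congr_fun (Coalgebra.IsCocomm.comm_comp_comul (R := k) (A := A)) (inc b)⟩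
  have hUB : HopfRep.IsUnipotent k B := Groth.L25.UnipExt.isUnipotent_of_injective inc hincinj hU
  obtain ⟨m, hm⟩ : ∃ m : ℕ, ringKrullDim B = m := by
    have h1 : ringKrullDim B + 1 = n := by
      rw [← Polynomial.ringKrullDim_of_isNoetherianRing, ringKrullDim_eq_of_ringEquiv Φ.toRingEquiv, hdim]
    haveI : Nontrivial B := RingHom.domain_nontrivial (Bialgebra.counitAlgHom k B).toRingHom
    obtain ⟨d, hd⟩ := WithBot.ne_bot_iff_exists.1 (ne_of_gt (lt_of_lt_of_le (WithBot.bot_lt_coe 0) (ringKrullDim_nonneg_of_nontrivial (R := B))))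
    rw [← hd] at h1
    have h2 : d + 1 = (n : ℕ∞) := by exact_mod_cast h1
    have hdne : d ≠ ⊤ := fun h => by simp [h] at h2
    obtain ⟨j, rfl⟩ := ENat.ne_top_iff_exists.1 hdne
    exact ⟨j, hd.symm⟩
  have hn : n = m + 1 := by
    have h1 : ringKrullDim A = m + 1 := by
      rw [← ringKrullDim_eq_of_ringEquiv Φ.toRingEquiv, Polynomial.ringKrullDim_of_isNoetherianRing, hm]
    rw [hdim] at h1
    exact_mod_cast h1
  subst hn
  obtain ⟨⟨eB⟩, hpB⟩ := IH m (Nat.lt_succ_self m) B hUB hm
  refine ⟨⟨Φ.symm.trans ((Polynomial.mapAlgEquiv eB).trans ?_)⟩, fun p hp hchar R _ _ g => ?_⟩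
  · exact ((MvPolynomial.finSuccEquiv k m).trans AlgEquiv.refl).symm
  · have hker : IsKer inc (g ^ p ^ m) := by
      let pre : WithConv (A →ₐ[k] R) →* WithConv (B →ₐ[k] R) :=
        MonoidHom.mk' (fun x : WithConv (A →ₐ[k] R) => (toConv (x.ofConv.comp (inc : B →ₐ[k] A)) : WithConv (B →ₐ[k] R)))
          fun x y => pre_mul inc x y
      show pre (g ^ p ^ m) = 1
      rw [map_pow]
      exact hpB p R (pre g)
    have hkill := hker.kills (J := RingHom.ker (π : A →ₐ[k] Q)) hJ
    let n₀ : Q →ₐ[k] R := AlgHom.liftOfSurjective (π : A →ₐ[k] Q) hπ (g ^ p ^ m).ofConv fun x hx => hkill x hx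
    have hline : g ^ p ^ m = linePt π e (n₀ (e X)) := by
      refine WithConv.ofConv_injective (AlgHom.ext fun x => ?_)
      rw [← AlgHom.liftOfSurjective_apply (π : A →ₐ[k] Q) hπ (g ^ p ^ m).ofConv (fun x hx => hkill x hx) x]
      show n₀ (π x) = Polynomial.aeval (n₀ (e X)) (e.symm (π x))
      rw [Polynomial.aeval_algHom_apply, ← AlgEquiv.coe_toAlgHom e, Polynomial.aeval_algHom_apply, Polynomial.aeval_X_left_apply]
      simp
    rw [pow_succ, pow_mul, hline]
    have hpow : ∀ (N : ℕ) (u : R), linePt π e u ^ N = linePt π e (N • u) := by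
      intro N u
      induction N with
      | zero => rw [pow_zero, zero_smul, linePt_zero π e ht]
      | succ N ihN => rw [pow_succ, ihN, ← linePt_add π e ht, succ_nsmul]
    rw [hpow, nsmul_eq_mul, ← map_natCast (algebraMap k R), CharP.cast_eq_zero, map_zero, zero_mul, linePt_zero π e ht]

end Groth.L01.Unip
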