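import Groth.Agent.L01.Unip.Uniform
import Groth.Agent.L01.Unip.Poly
import Groth.Agent.L25.LargestMult.Scheme
import Groth.Agent.L25.SplitSub.Image
import Groth.Agent.L26.AV.SmoothField
import Groth.Agent.L08.KrullHopf

/-!
# Connected commutative groups without subtori are unipotent
-/

set_option autoImplicit false
universe u

open CategoryTheory CategoryTheory.Limits MonoidalCategory CartesianMonoidalCategory
open AlgebraicGeometry WithConv
open scoped MonObj

set_option backward.isDefEq.respectTransparency.types false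

noncomputable section

namespace Groth.L01.Unip

open Groth.L25

theorem isTorus_DS (S : Scheme.{u}) (r : ℕ) : Red.IsTorus (Red.DS S (Fin r → ℤ)) := by
  refine ⟨S, 𝟙 S, inferInstance, inferInstance, fun V hV => ⟨V, hV.isCompact, by simp⟩, fun s => ⟨⊤, trivial, r, ?_⟩⟩
  exact ⟨Grp.mkIso' (SplitSub.bcDS _)⟩

theorem isTorus_P_fin (k : Type u) [Field k] (r : ℕ) :
    Red.IsTorus (Bridge.P k (MonoidAlgebra k (Multiplicative (Fin r → ℤ)))) := by
  obtain ⟨S', f, h1, h2, h3, h4⟩ := isTorus_DS (Spec (CommRingCat.of k)) r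
  refine ⟨S', f, h1, h2, h3, fun s => ?_⟩
  obtain ⟨U, hU, n, ⟨d⟩⟩ := h4 s
  exact ⟨U, hU, n, ⟨((Over.pullback (U.ι ≫ f)).mapGrp.mapIso (Bridge.dsIso k (Fin r → ℤ))).symm ≪≫ d⟩⟩

variable {k : Type u} [Field k] [IsAlgClosed k]

/-- The Hopf algebra of a connected commutative group without subtori. -/
theorem exists_hopf_unipotent (U : Over (Spec (CommRingCat.of k))) [GrpObj U] [IsCommMonObj U]
    [Smooth U.hom] [ConnectedSpace ↥U.left] [IsAffine U.left] (hU : Red.HasNoSubtorus k U) :
    ∃ (A : Type u) (_ : CommRing A) (_ : HopfAlgebra k A), Nonempty (Grp.mk U ≅ Grp.mk (Bridge.P k A)) ∧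
      Algebra.FiniteType k A ∧ IsDomain A ∧ Coalgebra.IsCocomm k A ∧ HopfRep.IsUnipotent k A := by
  obtain ⟨A, _, _, ⟨E⟩⟩ := Bridge.exists_hopf (R := k) U
  have hiso : IsIso E.inv.hom.hom :=
    ⟨E.hom.hom.hom, congr($(E.inv_hom_id).hom.hom), congr($(E.hom_inv_id).hom.hom)⟩
  have : IsIso E.inv.hom.hom.left := inferInstanceAs (IsIso ((Over.forget _).map E.inv.hom.hom))
  haveI hsm : AlgebraicGeometry.Smooth (Bridge.P k A).hom := by
    rw [← Over.w E.inv.hom.hom]
    exact inferInstanceAs (Smooth (E.inv.hom.hom.left ≫ U.hom))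
  have hft : Algebra.FiniteType k A := by
    have h : LocallyOfFiniteType (Bridge.P k A).hom := inferInstance
    change LocallyOfFiniteType (Spec.map (CommRingCat.ofHom (algebraMap k A))) at h
    rw [HasRingHomProperty.Spec_iff (P := @LocallyOfFiniteType), CommRingCat.hom_ofHom,
      RingHom.finiteType_algebraMap] at h
    exact h
  haveI : _root_.IsReduced A :=
    (affine_isReduced_iff (CommRingCat.of A)).1
      (@Groth.Agent.AV.isReduced_of_smooth_field k _ _ (Spec.map (CommRingCat.ofHom (algebraMap k A))) hsm)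
  haveI : ConnectedSpace (PrimeSpectrum A) :=
    (AlgebraicGeometry.Scheme.homeoOfIso (asIso E.inv.hom.hom.left)).symm.surjective.connectedSpace
      (Homeomorph.continuous _)
  have hconn : ∀ e : A, IsIdempotentElem e → e = 0 ∨ e = 1 := fun e he => by
    have hc : IsClopen (PrimeSpectrum.basicOpen e : Set (PrimeSpectrum A)) :=
      PrimeSpectrum.isClopen_iff.2 ⟨e, he, rfl⟩
    rcases isClopen_iff.1 hc with h | h
    · left
      exact (IsNilpotent.eq_zero ((PrimeSpectrum.basicOpen_eq_bot_iff e).1 (TopologicalSpace.Opens.ext h)))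
    · right
      have hu : IsUnit e := by
        by_contra hne
        obtain ⟨m, hm, hem⟩ := exists_max_ideal_of_mem_nonunits (mem_nonunits_iff.2 hne)
        have : (⟨m, hm.isPrime⟩ : PrimeSpectrum A) ∈ PrimeSpectrum.basicOpen e := by
          rw [← SetLike.mem_coe, h]; trivial
        exact this hem
      exact hu.mul_left_cancel (he.eq.trans (mul_one e).symm)
  haveI : (⊥ : Ideal A).IsPrime := by
    have hP := Groth.L08.KrullHopf.nilradical_isPrime k (A := A) hconn
    rwa [nilradical_eq_zero A] at hP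
  haveI : IsDomain A := IsDomain.of_bot_isPrime _
  haveI hco : Coalgebra.IsCocomm k A := LargestMult.isCocomm_of_comm k A fun X a b => by
    have : Mono E.inv.hom.hom := inferInstance
    have : IsMonHom E.inv.hom.hom := E.inv.hom.isMonHom_hom
    rw [← cancel_mono E.inv.hom.hom, MonObj.mul_comp, MonObj.mul_comp, mul_comm]
  refine ⟨A, _, _, ⟨E⟩, hft, inferInstance, hco, ?_⟩
  obtain ⟨M, _, hM, ⟨π, hπ⟩, hN⟩ := exists_diag_part (k := k) A
  haveI := hM
  have hfin : ∀ φ : M →* Multiplicative (Fin 1 → ℤ), ¬ Function.Surjective φ := by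
    intro φ hφ
    let q : A →ₐc[k] MonoidAlgebra k (Multiplicative (Fin 1 → ℤ)) := (MonoidAlgebra.mapDomainBialgHom k φ).comp π
    have hq : Function.Surjective q := by
      intro y
      induction y using MonoidAlgebra.induction_linear with
      | zero => exact ⟨0, map_zero _⟩
      | add a b ha hb =>
        obtain ⟨a', rfl⟩ := ha
        obtain ⟨b', rfl⟩ := hb
        exact ⟨a' + b', map_add _ _ _⟩
      | single g c =>
        obtain ⟨x, rfl⟩ := hφ g
        obtain ⟨a, ha⟩ := hπ (MonoidAlgebra.single x c)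
        exact ⟨a, by simp [q, ha]⟩
    let iP : Grp.mk (Bridge.P k (MonoidAlgebra k (Multiplicative (Fin 1 → ℤ)))) ⟶ Grp.mk (Bridge.P k A) :=
      (hopfSpec (CommRingCat.of k)).map (CommHopfAlgCat.ofHom q).op
    have : IsMonHom iP.hom.hom := iP.hom.isMonHom_hom
    have : IsMonHom E.inv.hom.hom := E.inv.hom.isMonHom_hom
    have : IsClosedImmersion iP.hom.hom.left := IsClosedImmersion.spec_of_surjective _ hq
    have : Mono iP.hom.hom := Over.mono_of_mono_left _
    have htriv : IsIso (Bridge.P k (MonoidAlgebra k (Multiplicative (Fin 1 → ℤ)))).hom :=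
      hU _ (iP.hom.hom ≫ E.inv.hom.hom) (isTorus_P_fin k 1)
    change IsIso (Spec.map (CommRingCat.ofHom (algebraMap k (MonoidAlgebra k (Multiplicative (Fin 1 → ℤ)))))) at htriv
    let φ' := CommRingCat.ofHom (algebraMap k (MonoidAlgebra k (Multiplicative (Fin 1 → ℤ))))
    haveI : IsIso (Scheme.Spec.map φ'.op) := htriv
    haveI : IsIso φ'.op := isIso_of_fully_faithful Scheme.Spec _
    haveI : IsIso φ' := isIso_of_op φ'
    have hb := ConcreteCategory.bijective_of_isIso
      (CommRingCat.ofHom (algebraMap k (MonoidAlgebra k (Multiplicative (Fin 1 → ℤ)))))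
    obtain ⟨c, hc⟩ := hb.2 (MonoidAlgebra.single (Multiplicative.ofAdd 1) 1)
    have := congrArg (fun z : MonoidAlgebra k (Multiplicative (Fin 1 → ℤ)) => z.coeff (Multiplicative.ofAdd 1)) hc
    simp [MonoidAlgebra.coe_algebraMap] at this
  haveI : Finite M := by
    obtain ⟨I', j, _, _, p, hp, e, ⟨eM⟩⟩ := CommGroup.equiv_free_prod_prod_multiplicative_zmod M
    rcases isEmpty_or_nonempty j with hj | ⟨⟨j₀⟩⟩
    · haveI : ∀ i, NeZero (p i ^ e i) := fun i => ⟨pow_ne_zero _ (hp i).ne_zero⟩
      exact Finite.of_equiv _ eM.symm.toEquiv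
    · let f : (j → Multiplicative ℤ) × ((i : I') → Multiplicative (ZMod (p i ^ e i))) →* Multiplicative (Fin 1 → ℤ) :=
        { toFun := fun x => Multiplicative.ofAdd (fun _ => Multiplicative.toAdd (x.1 j₀))
          map_one' := rfl
          map_mul' := fun _ _ => rfl }
      refine (hfin (f.comp eM.toMonoidHom) ?_).elim
      have hf : Function.Surjective f := fun y =>
        ⟨(fun _ => Multiplicative.ofAdd (Multiplicative.toAdd y 0), 1),
          congrArg Multiplicative.ofAdd (funext fun l => by rw [Subsingleton.elim l 0]; rfl)⟩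
      exact hf.comp eM.surjective
  have hN' := hN (Nat.card M) fun x => pow_card_eq_one'
  refine isUnipotent_of_points fun g => ?_
  rcases CharP.exists' k with h0 | ⟨p, hp, hcp⟩
  · exact isUnipPt_of_forall_pow (N := Nat.card M) (Nat.cast_ne_zero.2 Nat.card_pos.ne') hN' g
  · obtain ⟨a, N, hpN, hMN⟩ := Nat.exists_eq_pow_mul_and_not_dvd (Nat.card_pos.ne' (a := Nat.card M)) p hp.out.ne_one
    refine isUnipPt_of_forall_pow (N := N) (fun h => hpN ((CharP.cast_eq_zero_iff k p N).1 h)) (fun g => ?_) g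
    refine IsUnipPt.of_pow_char p (b := a) ?_
    rw [← pow_mul, mul_comm, ← hMN]
    exact hN' g

end Groth.L01.Unip

namespace Groth.L01.Unip

theorem exists_ringKrullDim (k : Type u) [Field k] (A : Type u) [CommRing A] [Nontrivial A] [Algebra k A]
    [Algebra.FiniteType k A] : ∃ n : ℕ, ringKrullDim A = n := by
  obtain ⟨s, hs⟩ := Algebra.FiniteType.out (R := k) (A := A)
  have hle : ringKrullDim A ≤ (s.card : ℕ) := by
    let φ : MvPolynomial s k →ₐ[k] A := MvPolynomial.aeval fun x => (x : A)
    have hφ : Function.Surjective φ := by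
      rw [← AlgHom.range_eq_top]
      show (MvPolynomial.aeval fun x : s => (x : A)).range = ⊤
      rw [← Algebra.adjoin_range_eq_range_aeval]
      simpa using hs
    refine (ringKrullDim_le_of_surjective φ.toRingHom hφ).trans ?_
    rw [MvPolynomial.ringKrullDim_of_isNoetherianRing, ringKrullDim_eq_zero_of_field]
    simp
  obtain ⟨d, hd⟩ := WithBot.ne_bot_iff_exists.1 (ne_of_gt (lt_of_lt_of_le (WithBot.bot_lt_coe 0) (ringKrullDim_nonneg_of_nontrivial (R := A))))
  rw [← hd] at hle ⊢
  have hd' : d ≠ ⊤ := fun h => by rw [h] at hle; exact absurd (WithBot.coe_le_coe.1 hle) (by simp)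
  obtain ⟨j, rfl⟩ := ENat.ne_top_iff_exists.1 hd'
  exact ⟨j, rfl⟩

end Groth.L01.Unip
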