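import Groth.Agent.S7966
import Mathlib.RingTheory.Bialgebra.MonoidAlgebra
import Mathlib.RingTheory.Coalgebra.Convolution
import Mathlib.RingTheory.Nullstellensatz
import Mathlib.LinearAlgebra.Dual.Lemmas

/-!
# Homomorphisms into group algebras as systems of functionals, and their descent
-/

set_option autoImplicit false

universe u v w

open TensorProduct WithConv

noncomputable section

namespace Groth.L01.Unip

variable {k : Type u} [Field k] {A : Type v} [CommRing A] [Bialgebra k A] {G : Type w} [CommGroup G] [Fintype G]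
  [DecidableEq G]

/-- Functionals describing a homomorphism into a group algebra. -/
structure IsCharSys {L : Type*} [CommRing L] [Algebra k L] (e : G → (A →ₗ[k] L)) : Prop where
  one : ∀ g, e g 1 = if g = 1 then 1 else 0
  mul : ∀ g x y, e g (x * y) = ∑ a : G, e a x * e (a⁻¹ * g) y
  counit : ∀ x, ∑ g, e g x = algebraMap k L (Coalgebra.counit (R := k) x)
  conv : ∀ g h, toConv (e g) * toConv (e h) = if g = h then toConv (e g) else 0

variable {e : G → (A →ₗ[k] k)}

omit [DecidableEq G] in
/-- The linear map attached to functionals. -/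
def toGA (e : G → (A →ₗ[k] k)) : A →ₗ[k] MonoidAlgebra k G where
  toFun x := ∑ g, MonoidAlgebra.single g (e g x)
  map_add' x y := by simp [Finset.sum_add_distrib]
  map_smul' c x := by simp [Finset.smul_sum, MonoidAlgebra.smul_single]

omit [DecidableEq G] in
theorem toGA_apply (e : G → (A →ₗ[k] k)) (x : A) : toGA e x = ∑ g, MonoidAlgebra.single g (e g x) := rfl

theorem IsCharSys.toGA_mul (h : IsCharSys e) (x y : A) : toGA e (x * y) = toGA e x * toGA e y := by
  rw [toGA_apply, toGA_apply, toGA_apply, Finset.sum_mul_sum]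
  calc ∑ g, MonoidAlgebra.single g (e g (x * y))
      = ∑ g, ∑ a : G, MonoidAlgebra.single g (e a x * e (a⁻¹ * g) y) := by
        refine Finset.sum_congr rfl fun g _ => ?_
        rw [h.mul]
        exact map_sum (MonoidAlgebra.singleAddHom g) _ _
    _ = ∑ a : G, ∑ g, MonoidAlgebra.single g (e a x * e (a⁻¹ * g) y) := Finset.sum_comm
    _ = ∑ a : G, ∑ b : G, MonoidAlgebra.single a (e a x) * MonoidAlgebra.single b (e b y) := by
        refine Finset.sum_congr rfl fun a _ => Fintype.sum_equiv (Equiv.mulLeft a⁻¹) _ _ fun g => ?_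
        show _ = MonoidAlgebra.single a (e a x) * MonoidAlgebra.single (a⁻¹ * g) (e (a⁻¹ * g) y)
        rw [MonoidAlgebra.single_mul_single, mul_inv_cancel_left]

/-- The homomorphism attached to functionals. -/
def IsCharSys.hom (h : IsCharSys e) : A →ₐc[k] MonoidAlgebra k G :=
  BialgHom.ofAlgHom
    (AlgHom.ofLinearMap (toGA e) (by
      rw [toGA_apply, Finset.sum_eq_single 1]
      · rw [h.one, if_pos rfl, MonoidAlgebra.one_def]
      · intro g _ hg; rw [h.one, if_neg hg]; simp
      · simp) h.toGA_mul)
    (AlgHom.ext fun x => by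
      show Coalgebra.counit (R := k) (toGA e x) = Coalgebra.counit (R := k) x
      rw [toGA_apply, map_sum]
      simp only [MonoidAlgebra.counit_single, CommSemiring.counit_apply]
      exact (h.counit x).trans (by simp))
    (AlgHom.ext fun x => by
      show TensorProduct.map (toGA e) (toGA e) (Coalgebra.comul (R := k) x) = Coalgebra.comul (R := k) (toGA e x)
      have h1 : ∀ z : A ⊗[k] A, TensorProduct.map (toGA e) (toGA e) z =
          ∑ a : G, ∑ b : G, (LinearMap.mul' k k (TensorProduct.map (e a) (e b) z)) •
            (MonoidAlgebra.single a (1 : k) ⊗ₜ[k] MonoidAlgebra.single b (1 : k)) := by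
        intro z
        induction z with
        | zero => simp
        | add p q hp hq => simp only [map_add, hp, hq, add_smul, Finset.sum_add_distrib]
        | tmul p q =>
          rw [TensorProduct.map_tmul, toGA_apply, toGA_apply, TensorProduct.sum_tmul]
          refine Finset.sum_congr rfl fun a _ => ?_
          rw [TensorProduct.tmul_sum]
          refine Finset.sum_congr rfl fun b _ => ?_
          rw [TensorProduct.map_tmul, LinearMap.mul'_apply, mul_smul, ← TensorProduct.tmul_smul,
            TensorProduct.smul_tmul', MonoidAlgebra.smul_single, MonoidAlgebra.smul_single, smul_eq_mul, smul_eq_mul,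
            mul_one, mul_one]
      rw [h1, toGA_apply, map_sum]
      refine Finset.sum_congr rfl fun a _ => ?_
      have h2 : ∀ b, LinearMap.mul' k k (TensorProduct.map (e a) (e b) (Coalgebra.comul (R := k) x)) =
          if a = b then e a x else 0 := fun b => by
        have := congrArg (fun z : WithConv (A →ₗ[k] k) => z.ofConv x) (h.conv a b)
        rw [LinearMap.convMul_apply] at this
        refine this.trans ?_
        split_ifs <;> rfl
      simp only [h2, ite_smul, zero_smul, Finset.sum_ite_eq, Finset.mem_univ, if_true]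
      rw [MonoidAlgebra.comul_single, CommSemiring.comul_apply, TensorProduct.map_tmul]
      show _ = MonoidAlgebra.single a (1 : k) ⊗ₜ[k] MonoidAlgebra.single a (e a x)
      rw [← TensorProduct.tmul_smul, MonoidAlgebra.smul_single, smul_eq_mul, mul_one])

theorem IsCharSys.hom_apply (h : IsCharSys e) (x : A) : h.hom x = ∑ g, MonoidAlgebra.single g (e g x) := rfl

theorem IsCharSys.coeff_hom (h : IsCharSys e) (x : A) (g : G) : (h.hom x).coeff g = e g x := by
  rw [h.hom_apply, MonoidAlgebra.coeff_sum, Finset.sum_apply']
  simp [MonoidAlgebra.coeff_single, Finsupp.single_apply]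

theorem IsCharSys.surjective (h : IsCharSys e) (hne : ∀ g, e g ≠ 0) : Function.Surjective h.hom := by
  have hli : LinearIndependent k (fun g => toConv (e g)) := by
    rw [Fintype.linearIndependent_iff]
    intro c hc g
    have h1 := congrArg (· * toConv (e g)) hc
    simp only [Finset.sum_mul, smul_mul_assoc, h.conv, smul_ite, smul_zero, Finset.sum_ite_eq', Finset.mem_univ,
      if_true, zero_mul] at h1
    rcases smul_eq_zero.1 h1 with h2 | h2
    · exact h2
    · exact absurd (congrArg WithConv.ofConv h2) (hne g)
  by_contra hns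
  obtain ⟨θ, hθ, hr⟩ := Submodule.exists_dual_map_eq_bot_of_lt_top
    (lt_top_iff_ne_top.2 fun htop => hns (LinearMap.range_eq_top.1
      (htop : LinearMap.range (toGA e) = ⊤))) inferInstance
  refine hθ ?_
  have h0 : ∀ g, θ (MonoidAlgebra.single g (1 : k)) = 0 := by
    refine Fintype.linearIndependent_iff.1 hli (fun g => θ (MonoidAlgebra.single g (1 : k))) ?_
    refine WithConv.ofConv_injective (LinearMap.ext fun x => ?_)
    have h3 : θ (toGA e x) = 0 := by
      have := Submodule.mem_map_of_mem (f := θ) (LinearMap.mem_range_self (toGA e) x)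
      rwa [hr, Submodule.mem_bot] at this
    rw [toGA_apply, map_sum] at h3
    have hs : ∀ g, θ (MonoidAlgebra.single g (e g x)) = θ (MonoidAlgebra.single g (1 : k)) * e g x := fun g => by
      rw [show MonoidAlgebra.single g (e g x) = e g x • MonoidAlgebra.single g (1 : k) by
        rw [MonoidAlgebra.smul_single, smul_eq_mul, mul_one], map_smul, smul_eq_mul, mul_comm]
    simp only [hs] at h3
    show (WithConv.ofConv (∑ g, θ (MonoidAlgebra.single g (1 : k)) • toConv (e g))) x = 0
    simpa [LinearMap.sum_apply] using h3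
  refine LinearMap.ext fun z => ?_
  induction z using MonoidAlgebra.induction_linear with
  | zero => simp
  | add p q hp hq => simp [hp, hq]
  | single g c =>
    rw [show MonoidAlgebra.single g c = c • MonoidAlgebra.single g (1 : k) by
      rw [MonoidAlgebra.smul_single, smul_eq_mul, mul_one], map_smul, h0, smul_zero]
    rfl

/-- A system with values in an algebra, pushed to the ground field along a point. -/
theorem IsCharSys.push {L : Type*} [CommRing L] [Algebra k L] {e : G → (A →ₗ[k] L)} (h : IsCharSys e)
    (R : Subalgebra k L) (hR : ∀ g x, e g x ∈ R) (χ : R →ₐ[k] k) :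
    IsCharSys fun g => χ.toLinearMap ∘ₗ (e g).codRestrict (Subalgebra.toSubmodule R) (hR g) := by
  refine ⟨fun g => ?_, fun g x y => ?_, fun x => ?_, fun g h' => ?_⟩
  · show χ ⟨e g 1, _⟩ = _
    refine (congrArg χ (Subtype.ext (a2 := (if g = 1 then 1 else 0 : R)) ?_)).trans ?_
    · show e g 1 = _
      rw [h.one]; split_ifs <;> rfl
    · split_ifs <;> simp
  · show χ ⟨e g (x * y), _⟩ = ∑ a : G, χ ⟨e a x, _⟩ * χ ⟨e (a⁻¹ * g) y, _⟩
    refine (congrArg χ (Subtype.ext (a2 := ∑ a : G, (⟨e a x, hR a x⟩ : R) * ⟨e (a⁻¹ * g) y, hR _ y⟩) ?_)).trans ?_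
    · show e g (x * y) = _
      rw [h.mul, AddSubmonoidClass.coe_finsetSum]; rfl
    · rw [map_sum]
      exact Finset.sum_congr rfl fun a _ => map_mul χ _ _
  · show ∑ g, χ ⟨e g x, _⟩ = _
    rw [← map_sum, show (∑ g, (⟨e g x, hR g x⟩ : R)) = algebraMap k R (Coalgebra.counit (R := k) x) from
      Subtype.ext (by rw [AddSubmonoidClass.coe_finsetSum]; exact h.counit x), AlgHom.commutes]
  · refine WithConv.ofConv_injective (LinearMap.ext fun x => ?_)
    have h1 := congrArg (fun z : WithConv (A →ₗ[k] L) => z.ofConv x) (h.conv g h')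
    rw [LinearMap.convMul_apply] at h1 ⊢
    let r := Coalgebra.Repr.arbitrary k x
    rw [← r.eq] at h1 ⊢
    simp only [map_sum, TensorProduct.map_tmul, LinearMap.mul'_apply, ofConv_toConv] at h1 ⊢
    have h3 : ∀ (c : A), (χ.toLinearMap ∘ₗ (e g).codRestrict (Subalgebra.toSubmodule R) (hR g)) c = χ ⟨e g c, hR g c⟩ :=
      fun c => rfl
    have h4 : ∀ (c : A), (χ.toLinearMap ∘ₗ (e h').codRestrict (Subalgebra.toSubmodule R) (hR h')) c = χ ⟨e h' c, hR h' c⟩ :=
      fun c => rfl
    simp only [h3, h4, ← map_mul, ← map_sum]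
    by_cases hgh : g = h'
    · subst hgh
      rw [if_pos rfl] at h1 ⊢
      show _ = χ ⟨e g x, _⟩
      exact congrArg χ (Subtype.ext (by simpa using h1))
    · rw [if_neg hgh] at h1 ⊢
      show _ = (0 : k)
      rw [← map_zero χ]
      exact congrArg χ (Subtype.ext (by simpa using h1))

end Groth.L01.Unip
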