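import Groth.Agent.L01.MultConj.Pts
import Groth.Agent.L01.MultConj.Translate

/-!
# The closed commutative subgroup generated by a rational point
-/

set_option autoImplicit false

universe u

open TensorProduct WithConv Groth.L08
open Groth.L01.MultConj (trR point_trR ptIdeal mem_ptIdeal isReduced_ptIdeal)

noncomputable section

namespace Groth.L01.Unip

variable {k : Type u} [Field k] [IsAlgClosed k] {A : Type u} [CommRing A] [HopfAlgebra k A]

/-- Left translation by a point. -/
def trL (v : WithConv (A →ₐ[k] k)) : A →ₐ[k] A :=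
  (Groth.L01.MultDescent.push A (Algebra.ofId k A) v * (toConv (AlgHom.id k A) : WithConv (A →ₐ[k] A))).ofConv

omit [IsAlgClosed k] in
theorem point_trL (x : A →ₐ[k] k) (v : WithConv (A →ₐ[k] k)) (a : A) :
    x (trL v a) = (v * toConv x).ofConv a := by
  have h : (toConv (x.comp (trL v)) : WithConv (A →ₐ[k] k)) = v * toConv x := by
    rw [trL, UnipSplit.post_mul]
    congr 1
    exact WithConv.ofConv_injective (AlgHom.ext fun a => x.commutes _)
  exact congrArg (fun t : WithConv (A →ₐ[k] k) => t.ofConv a) h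

variable [Algebra.FiniteType k A]

/-- A rational point lies in a closed commutative subgroup. -/
theorem exists_comm_closure (g : WithConv (A →ₐ[k] k)) :
    ∃ (I : Ideal A) (_ : I.IsHopfIdeal k), Coalgebra.IsCocomm k (A ⧸ I) ∧ ∀ a ∈ I, g.ofConv a = 0 := by
  let W : Submonoid (WithConv (A →ₐ[k] k)) := Submonoid.closure {g, pinv g}
  let I : Ideal A := ptIdeal (W : Set (WithConv (A →ₐ[k] k)))
  haveI : IsReduced (A ⧸ I) := isReduced_ptIdeal _
  have hWc : ∀ x ∈ W, ∀ y ∈ W, x * y = y * x := by
    have hc : ∀ x ∈ ({g, pinv g} : Set (WithConv (A →ₐ[k] k))), ∀ y ∈ ({g, pinv g} : Set (WithConv (A →ₐ[k] k))),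
        Commute x y := by
      have h : Commute g (pinv g) := (mul_pinv g).trans (pinv_mul g).symm
      rintro x (rfl | rfl) y (rfl | rfl)
      · exact Commute.refl _
      · exact h
      · exact h.symm
      · exact Commute.refl _
    intro x hx y hy
    have h1 : ∀ b ∈ ({g, pinv g} : Set (WithConv (A →ₐ[k] k))), Commute x b := fun b hb =>
      Submonoid.closure_induction (motive := fun x _ => Commute x b) (fun a ha => hc a ha b hb) (Commute.one_left b)
        (fun _ _ _ _ h h' => h.mul_left h') hx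
    exact Submonoid.closure_induction (motive := fun y _ => Commute x y) (fun b hb => h1 b hb) (Commute.one_right x)
      (fun _ _ _ _ h h' => h.mul_right h') hy
  have hWi : ∀ x ∈ W, pinv x ∈ W := by
    intro x hx
    obtain ⟨y, hy, hxy⟩ : ∃ y ∈ W, x * y = 1 := by
      induction hx using Submonoid.closure_induction with
      | mem a ha =>
        rcases ha with rfl | rfl
        · exact ⟨_, Submonoid.subset_closure (Or.inr rfl), mul_pinv _⟩
        · exact ⟨_, Submonoid.subset_closure (Or.inl rfl), pinv_mul _⟩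
      | one => exact ⟨1, one_mem _, mul_one 1⟩
      | mul a b _ _ ha hb =>
        obtain ⟨a', ha', h1⟩ := ha
        obtain ⟨b', hb', h2⟩ := hb
        exact ⟨b' * a', mul_mem hb' ha', by rw [mul_assoc, ← mul_assoc b, h2, one_mul, h1]⟩
    rwa [left_inv_eq_right_inv (pinv_mul x) hxy]
  let Cl : WithConv (A →ₐ[k] k) → Prop := fun v => ∀ a ∈ I, v.ofConv a = 0
  have hWCl : ∀ w ∈ W, Cl w := fun w hw a ha => mem_ptIdeal.1 ha w hw
  have hmul : ∀ v w : WithConv (A →ₐ[k] k), Cl v → Cl w → Cl (v * w) := by
    intro v w hv hw a ha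
    have h1 : ∀ y ∈ W, (v * y).ofConv a = 0 := by
      intro y hy
      have h2 := hv (trR y a) (mem_ptIdeal.2 fun x hx => by rw [point_trR, toConv_ofConv]; exact hWCl _ (mul_mem hx hy) a ha)
      rwa [point_trR, toConv_ofConv] at h2
    have h2 := hw (trL v a) (mem_ptIdeal.2 fun x hx => by rw [point_trL, toConv_ofConv]; exact h1 x hx)
    rwa [point_trL, toConv_ofConv] at h2
  have hinv : ∀ v : WithConv (A →ₐ[k] k), Cl v → Cl (pinv v) := by
    intro v hv a ha
    exact hv (HopfAlgebra.antipodeAlgHom k A a) (mem_ptIdeal.2 fun x hx => hWCl _ (hWi x hx) a ha)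
  have hI : I.IsHopfIdeal k := Groth.L01.MultConj.isHopfIdeal_of_points (k := k) (K := k) I
    (fun a ha => by simpa using hWCl 1 (one_mem W) a ha) hmul hinv
  have hcomm : ∀ v w : WithConv (A →ₐ[k] k), Cl v → Cl w → v * w = w * v := by
    intro v w hv hw
    refine WithConv.ofConv_injective (AlgHom.ext fun a => ?_)
    have h1 : ∀ v, Cl v → ∀ y ∈ W, (v * y).ofConv a = (y * v).ofConv a := by
      intro v hv y hy
      have h2 := hv (trR y a - trL y a) (mem_ptIdeal.2 fun x hx => by
        rw [map_sub, point_trR, point_trL, toConv_ofConv, hWc x hx y hy, sub_self])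
      rwa [map_sub, point_trR, point_trL, toConv_ofConv, sub_eq_zero] at h2
    have h2 := hw (trL v a - trR v a) (mem_ptIdeal.2 fun x hx => by
      rw [map_sub, point_trR, point_trL, toConv_ofConv, h1 v hv x hx, sub_self])
    rwa [map_sub, point_trR, point_trL, toConv_ofConv, sub_eq_zero] at h2
  refine ⟨I, hI, ⟨LinearMap.ext fun b => ?_⟩, fun a ha => hWCl g (Submonoid.subset_closure (Or.inl rfl)) a ha⟩
  haveI := hI
  haveI : Algebra.FiniteType k (A ⧸ I) :=
    Algebra.FiniteType.of_surjective (Ideal.Quotient.mkₐ k I) Ideal.Quotient.mk_surjective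
  rw [← sub_eq_zero]
  refine Groth.L01.MultConj.eq_zero_of_points₂ (k := k) (K := k) fun v' w' => ?_
  obtain ⟨a, rfl⟩ := Ideal.Quotient.mk_surjective b
  rw [map_sub, sub_eq_zero]
  have hlift : ∀ (v' w' : A ⧸ I →ₐ[k] k) (z : (A ⧸ I) ⊗[k] (A ⧸ I)),
      Algebra.TensorProduct.lift v' w' (fun _ _ => Commute.all _ _) (TensorProduct.comm k _ _ z) =
        Algebra.TensorProduct.lift w' v' (fun _ _ => Commute.all _ _) z := by
    intro v' w' z
    induction z with
    | zero => simp
    | add p q hp hq => simp only [map_add, hp, hq]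
    | tmul p q => simp [mul_comm]
  let π : A →ₐc[k] A ⧸ I := Bialgebra.Quotient.mkBialgHom I
  have hval : ∀ (v' w' : A ⧸ I →ₐ[k] k), Algebra.TensorProduct.lift v' w' (fun _ _ => Commute.all _ _)
      (Coalgebra.comul (R := k) (Ideal.Quotient.mk I a)) =
        ((toConv (v'.comp (π : A →ₐ[k] A ⧸ I)) : WithConv (A →ₐ[k] k)) * toConv (w'.comp (π : A →ₐ[k] A ⧸ I))).ofConv a := by
    intro v' w'
    rw [show Ideal.Quotient.mk I a = π a from rfl, ← CoalgHomClass.map_comp_comul_apply π, AlgHom.convMul_apply]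
    induction Coalgebra.comul (R := k) a with
    | zero => simp
    | add p q hp hq => simp only [map_add, hp, hq]
    | tmul p q => simp
  have hCl : ∀ v' : A ⧸ I →ₐ[k] k, Cl (toConv (v'.comp (π : A →ₐ[k] A ⧸ I))) := fun v' x hx => by
    show v' (Ideal.Quotient.mk I x) = 0
    rw [Ideal.Quotient.eq_zero_iff_mem.2 hx, map_zero]
  refine (hlift v' w' _).trans ?_
  rw [hval, hval, hcomm _ _ (hCl w') (hCl v')]

end Groth.L01.Unip
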