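import Groth.Agent.L01.Unip.UnipPt
import Groth.Agent.L01.MultByUnip.Main
import Groth.Agent.L25.LargestMult.Split
import Mathlib.RingTheory.FiniteType
import Mathlib.RingTheory.HopfAlgebra.GroupLike

/-!
# The multiplicative part of a commutative group and its unipotent points
-/

set_option autoImplicit false

universe u

open TensorProduct WithConv

noncomputable section

namespace Groth.L01.Unip

variable {k : Type u} [Field k]

/-- Pullback of points along a bialgebra map. -/
def preHom {A B : Type u} [CommRing A] [Bialgebra k A] [CommRing B] [Bialgebra k B] (q : A →ₐc[k] B) :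
    WithConv (B →ₐ[k] k) →* WithConv (A →ₐ[k] k) where
  toFun g := toConv (g.ofConv.comp (q : A →ₐ[k] B))
  map_one' := WithConv.ofConv_injective (AlgHom.ext fun a => by simp)
  map_mul' g h := WithConv.ofConv_injective (AlgHom.convMul_comp_bialgHom_distrib g h q)

/-- A diagonalisable algebra over an algebraically closed field is a group algebra. -/
theorem exists_equiv_monoidAlgebra [IsAlgClosed k] (B : Type u) [CommRing B] [HopfAlgebra k B]
    [Algebra.FiniteType k B]
    (hd : HopfRep.IsDiagonalizable (AlgebraicClosure k) (AlgebraicClosure k ⊗[k] B)) :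
    Group.FG (GroupLike k B) ∧ ∃ e : MonoidAlgebra k (GroupLike k B) →ₐc[k] B, Function.Bijective e := by
  let L := AlgebraicClosure k
  have hL : Function.Bijective (algebraMap k L) := IsAlgClosed.algebraMap_bijective_of_isIntegral
  let i : B →ₐ[k] L ⊗[k] B := Algebra.TensorProduct.includeRight
  have hi : Function.Injective i := Algebra.TensorProduct.includeRight_injective hL.1
  let E := TensorProduct.AlgebraTensorModule.distribBaseChange k L B B
  have hcom : ∀ b : B, Coalgebra.comul (R := L) (i b) = E ((1 : L) ⊗ₜ[k] Coalgebra.comul (R := k) b) := by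
    intro b
    change TensorProduct.AlgebraTensorModule.tensorTensorTensorComm k L k L L L B B
        (CoalgebraStruct.comul (R := L) (A := L) 1 ⊗ₜ[k] Coalgebra.comul (R := k) b) = _
    rw [CommSemiring.comul_apply]
    induction Coalgebra.comul (R := k) b using TensorProduct.induction_on with
    | zero => simp
    | tmul u v => rfl
    | add u v hu hv => rw [TensorProduct.tmul_add, TensorProduct.tmul_add, map_add, map_add, hu, hv]
  have hsurj : ∀ x : L ⊗[k] B, ∃ b, i b = x := by
    intro x
    induction x with
    | zero => exact ⟨0, map_zero _⟩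
    | add x y hx hy =>
      obtain ⟨a, rfl⟩ := hx
      obtain ⟨b, rfl⟩ := hy
      exact ⟨a + b, map_add _ _ _⟩
    | tmul c b =>
      obtain ⟨c', rfl⟩ := hL.2 c
      exact ⟨c' • b, by rw [Algebra.algebraMap_eq_smul_one, TensorProduct.smul_tmul]; rfl⟩
  have hgl : ∀ b : B, IsGroupLikeElem L (i b) → IsGroupLikeElem k b := by
    intro b hb
    refine ⟨hL.1 ?_, ?_⟩
    · rw [map_one, ← hb.counit_eq_one]
      simp [i, Algebra.algebraMap_eq_smul_one]
    · have h1 := hb.comul_eq_tmul_self
      rw [hcom] at h1
      refine Algebra.TensorProduct.includeRight_injective (A := L) hL.1 (E.injective (h1.trans ?_))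
      rfl
  let e : MonoidAlgebra k (GroupLike k B) →ₐc[k] B := MonoidAlgebra.liftGroupLikeBialgHom
  have hes : ∀ (g : GroupLike k B) (c : k), e (MonoidAlgebra.single g c) = c • g.val := fun g c => by simp [e]
  have he : Function.Bijective e := by
    constructor
    · intro x y h
      have he' : ∀ x, e x = Finsupp.linearCombination k (GroupLike.val (R := k) (A := B)) x.coeff := by
        intro x
        induction x using MonoidAlgebra.induction_linear with
        | zero => simp
        | add p q hp hq => rw [map_add, hp, hq, MonoidAlgebra.coeff_add, map_add]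
        | single n r => rw [MonoidAlgebra.coeff_single, Finsupp.linearCombination_single, hes]
      rw [he', he'] at h
      exact MonoidAlgebra.ext (linearIndep_groupLikeVal h)
    · intro b
      have : i b ∈ Submodule.span L {g : L ⊗[k] B | IsGroupLikeElem L g} := hd ▸ Submodule.mem_top
      suffices h : ∀ x ∈ Submodule.span L {g : L ⊗[k] B | IsGroupLikeElem L g}, ∃ y, i (e y) = x by
        obtain ⟨y, hy⟩ := h _ this
        exact ⟨y, hi hy⟩
      intro x hx
      induction hx using Submodule.span_induction with
      | zero => exact ⟨0, by rw [map_zero, map_zero]⟩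
      | mem g hg =>
        obtain ⟨c, rfl⟩ := hsurj g
        exact ⟨MonoidAlgebra.single ⟨c, hgl c hg⟩ 1, by rw [hes, one_smul]⟩
      | add x y _ _ hx hy =>
        obtain ⟨a, rfl⟩ := hx
        obtain ⟨c, rfl⟩ := hy
        exact ⟨a + c, by rw [map_add, map_add]⟩
      | smul c x _ hx =>
        obtain ⟨a, rfl⟩ := hx
        obtain ⟨c', rfl⟩ := hL.2 c
        exact ⟨c' • a, by rw [map_smul, map_smul, algebraMap_smul]⟩
  haveI : Algebra.FiniteType k (MonoidAlgebra k (GroupLike k B)) :=
    Algebra.FiniteType.of_surjective (BialgEquiv.ofBijective e he).symm.toAlgEquiv.toAlgHom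
      (BialgEquiv.ofBijective e he).symm.toAlgEquiv.surjective
  exact ⟨MonoidAlgebra.finiteType_iff_group_fg.1 this, e, he⟩

/-- A commutative group has a diagonalisable quotient `D(M)` such that points killed by `M` are unipotent. -/
theorem exists_diag_part [IsAlgClosed k] (H : Type u) [CommRing H] [HopfAlgebra k H] [Algebra.FiniteType k H]
    [Coalgebra.IsCocomm k H] :
    ∃ (M : Type u) (_ : CommGroup M), Group.FG M ∧
      (∃ π : H →ₐc[k] MonoidAlgebra k M, Function.Surjective π) ∧
      ∀ N : ℕ, (∀ x : M, x ^ N = 1) → ∀ g : WithConv (H →ₐ[k] k), IsUnipPt (g ^ N) := by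
  haveI := Groth.L25.LargestMult.isHopfIdeal_J (k := k) (A := H)
  haveI := Groth.L25.LargestMult.isHopfIdeal_I (k := k) (A := H)
  let J := Groth.L25.LargestMult.J k H
  let I := Groth.L25.LargestMult.I k H
  let B := H ⧸ J
  haveI : Algebra.FiniteType k B := Algebra.FiniteType.of_surjective (Ideal.Quotient.mkₐ k J) Ideal.Quotient.mk_surjective
  obtain ⟨hfg, e, he⟩ := exists_equiv_monoidAlgebra B
    (Groth.L01.MultByUnip.isDiagonalizable_algClosure Groth.L25.LargestMult.isMultTypeConst_quotient)
  let e' : B →ₐc[k] MonoidAlgebra k (GroupLike k B) := (BialgEquiv.ofBijective e he).symm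
  let πJ : H →ₐc[k] B := Bialgebra.Quotient.mkBialgHom J
  let πI : H →ₐc[k] H ⧸ I := Bialgebra.Quotient.mkBialgHom I
  refine ⟨GroupLike k B, inferInstance, hfg,
    ⟨e'.comp πJ, (BialgEquiv.ofBijective e he).symm.surjective.comp Ideal.Quotient.mk_surjective⟩, fun N hN g => ?_⟩
  let S := AlgEquiv.ofBijective (Groth.L25.LargestMult.split k H)
    ⟨Groth.L25.LargestMult.split_injective, Groth.L25.LargestMult.split_surjective⟩
  let T : B ⊗[k] (H ⧸ I) →ₐ[k] k := g.ofConv.comp S.symm.toAlgHom
  let m : WithConv (B →ₐ[k] k) := toConv (T.comp Algebra.TensorProduct.includeLeft)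
  let v : WithConv (H ⧸ I →ₐ[k] k) := toConv (T.comp Algebra.TensorProduct.includeRight)
  have hg : g = preHom πJ m * preHom πI v := by
    refine WithConv.ofConv_injective (AlgHom.ext fun a => ?_)
    have hT : ∀ z : B ⊗[k] (H ⧸ I), T z =
        Algebra.TensorProduct.lift m.ofConv v.ofConv (fun _ _ => Commute.all _ _) z := fun z => by
      induction z with
      | zero => simp
      | add p q hp hq => rw [map_add, map_add, hp, hq]
      | tmul p q =>
        rw [Algebra.TensorProduct.lift_tmul]
        show T (p ⊗ₜ q) = T (p ⊗ₜ 1) * T (1 ⊗ₜ q)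
        rw [← map_mul, Algebra.TensorProduct.tmul_mul_tmul, _root_.mul_one, _root_.one_mul]
    have h1 : g.ofConv a = T (S a) := by simp [T]
    rw [h1, hT, AlgHom.convMul_apply]
    show Algebra.TensorProduct.lift m.ofConv v.ofConv _ (Groth.L25.LargestMult.split k H a) = _
    show Algebra.TensorProduct.lift m.ofConv v.ofConv _
      (Algebra.TensorProduct.map (Ideal.Quotient.mkₐ k J) (Ideal.Quotient.mkₐ k I) (Coalgebra.comul (R := k) a)) = _
    induction Coalgebra.comul (R := k) a with
    | zero => simp
    | add p q hp hq => simp only [map_add, hp, hq]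
    | tmul p q => simp [preHom]; rfl
  have hm : m ^ N = 1 := by
    let m' : WithConv (MonoidAlgebra k (GroupLike k B) →ₐ[k] k) := preHom e m
    have hm' : m' ^ N = 1 := by
      refine WithConv.ofConv_injective (MonoidAlgebra.algHom_ext (fun x => ?_) (Subsingleton.elim _ _))
      have hgl : ∀ n : ℕ, (m' ^ n).ofConv (MonoidAlgebra.single x 1) = m'.ofConv (MonoidAlgebra.single x 1) ^ n := by
        intro n
        induction n with
        | zero => simp
        | succ n ih =>
          rw [pow_succ, AlgHom.convMul_apply,
            (MonoidAlgebra.isGroupLikeElem_single_one (R := k) x).comul_eq_tmul_self, pow_succ]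
          simp [ih]
      rw [hgl, ← map_pow, MonoidAlgebra.single_pow, one_pow, hN, ← MonoidAlgebra.one_def, map_one]
      simp [MonoidAlgebra.one_def]
    refine WithConv.ofConv_injective (AlgHom.ext fun b => ?_)
    obtain ⟨y, rfl⟩ := he.2 b
    have := congrArg (fun z : WithConv (MonoidAlgebra k (GroupLike k B) →ₐ[k] k) => z.ofConv y)
      ((map_pow (preHom e) m N).trans (hm'.trans (map_one (preHom e)).symm))
    exact this
  have hU : HopfRep.IsUnipotent k (H ⧸ I) := Groth.L25.LargestMult.isUnipotent_quotient
  rw [hg, mul_pow, ← map_pow, hm, map_one, _root_.one_mul, ← map_pow]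
  exact (isUnipPt_of_isUnipotent hU (v ^ N)).comap πI

end Groth.L01.Unip
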