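import Groth.Agent.L01.Unip.Conv
import Groth.Agent.L08.Flag
import Groth.Agent.L08.Subcoalg
import Groth.Agent.L25.DerReduced
import Groth.Prelude.Def_HopfRep
import Mathlib.Algebra.Lie.Engel
import Mathlib.Algebra.Lie.OfAssociative

/-!
# Height one groups with nilpotent Lie algebra are unipotent
-/

set_option autoImplicit false

universe u v

open TensorProduct WithConv MvPolynomial
open Groth.L08 (fAct)
open Groth.L08.AugGraded (IsTangent)

noncomputable section

namespace Groth.L01.Unip

variable {k : Type u} [Field k] {A : Type v} [CommRing A] [Bialgebra k A]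

variable [Algebra.FiniteType k A]

section Box

variable (p : ℕ) [hp : Fact p.Prime] [CharP k p] {r : ℕ} (x : Fin r → A) (w : Fin r → A →ₗ[k] k)
  (hx : ∀ i, x i ∈ (RingHom.ker (Bialgebra.counitAlgHom k A) : Ideal A))
  (hw : ∀ i, IsTangent k A (w i)) (hwx : ∀ i j, w i (x j) = if i = j then 1 else 0)

/-- Polynomials of degree less than `p` in each variable. -/
def IsBox (P : MvPolynomial (Fin r) k) : Prop := ∀ m ∈ P.support, ∀ i, m i < p

omit [CharP k p] hp in
theorem IsBox.pderiv {P : MvPolynomial (Fin r) k} (h : IsBox p P) (i : Fin r) : IsBox p (pderiv i P) := by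
  classical
  intro m hm j
  rw [mem_support_iff, coeff_pderiv] at hm
  have h2 := h _ (mem_support_iff.2 (left_ne_zero_of_mul hm)) j
  simp only [Finsupp.add_apply] at h2
  omega

theorem eq_zero_of_pderiv_eq_zero {P : MvPolynomial (Fin r) k} (hbox : IsBox p P) {d : ℕ}
    (hP : P.IsHomogeneous (d + 1)) (h : ∀ i, pderiv i P = 0) : P = 0 := by
  classical
  ext m
  rw [coeff_zero]
  by_contra hne
  have hdeg := hP hne
  obtain ⟨i, hi⟩ : ∃ i, m i ≠ 0 := by
    by_contra! h0
    rw [show m = 0 from Finsupp.ext h0, map_zero] at hdeg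
    omega
  have h1 := congrArg (coeff (m - Finsupp.single i 1)) (h i)
  have hm : m - Finsupp.single i 1 + Finsupp.single i 1 = m := by
    ext j
    by_cases hj : i = j
    · subst hj
      simp only [Finsupp.add_apply, Finsupp.tsub_apply, Finsupp.single_eq_same]
      omega
    · simp [Finsupp.single_eq_of_ne (Ne.symm hj)]
  rw [coeff_pderiv, coeff_zero, hm, mul_eq_zero] at h1
  have h2 : ((m i : ℕ) : k) = 0 := by
    rcases h1 with h1 | h1
    · exact absurd h1 hne
    · have h3 : (m - Finsupp.single i 1 : Fin r →₀ ℕ) i + 1 = m i := by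
        simp only [Finsupp.tsub_apply, Finsupp.single_eq_same]
        omega
      rw [← h3, Nat.cast_add, Nat.cast_one]
      exact h1
  have h4 := (CharP.cast_eq_zero_iff k p _).1 h2
  have h5 := hbox m (mem_support_iff.2 hne) i
  exact absurd (Nat.le_of_dvd (Nat.pos_of_ne_zero hi) h4) (not_le.2 h5)

include hx hw hwx in
theorem eq_zero_of_box : ∀ (d : ℕ) (P : MvPolynomial (Fin r) k), IsBox p P → P.IsHomogeneous d →
    aeval x P ∈ RingHom.ker (Bialgebra.counitAlgHom k A) ^ (d + 1) → P = 0 := by
  intro d
  induction d with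
  | zero =>
    intro P _ hP h
    rw [← totalDegree_zero_iff_isHomogeneous, totalDegree_eq_zero_iff_eq_C] at hP
    rw [hP] at h ⊢
    rw [pow_one, RingHom.mem_ker, aeval_C, AlgHom.commutes] at h
    simp at h
    simp [h]
  | succ d ih =>
    intro P hbox hP h
    refine eq_zero_of_pderiv_eq_zero p hbox hP fun i => ih _ (hbox.pderiv p i) hP.pderiv
      (Groth.L08.AugGraded.pderiv_mem x w hx hw hwx hP i (Groth.L25.DerReduced.derivation_pow _ (d + 1) h))

end Box

/-- In a group of height one a function killed by all tangent vectors is constant. -/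
theorem eq_zero_of_killed (p : ℕ) [hp : Fact p.Prime] [CharP k p]
    (hA : ∀ f : A, Bialgebra.counitAlgHom k A f = 0 → f ^ p = 0) {a : A}
    (ha : Bialgebra.counitAlgHom k A a = 0) (hD : ∀ w : A →ₗ[k] k, IsTangent k A w → fAct A w a = 0) : a = 0 := by
  classical
  haveI : IsNoetherianRing A := Algebra.FiniteType.isNoetherianRing k A
  obtain ⟨x, w, hx, hw, hwx, hspan⟩ := Groth.L08.AugGraded.exists_coords k A
  let m := RingHom.ker (Bialgebra.counitAlgHom k A)
  have key : ∀ d, a ∈ m ^ d := by
    intro d
    induction d with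
    | zero => simp
    | succ d ih =>
      rcases Nat.eq_zero_or_pos d with rfl | hpos
      · rw [zero_add, pow_one]; exact ha
      obtain ⟨e, rfl⟩ : ∃ e, d = e + 1 := ⟨d - 1, by omega⟩
      obtain ⟨P, hP, hP'⟩ := Groth.L08.AugGraded.exists_homogeneous x hx hspan (e + 1) a ih
      let P₀ : MvPolynomial (Fin _) k := ∑ s ∈ P.support.filter (fun s => ∀ i, s i < p), monomial s (coeff s P)
      have hcoeff : ∀ s, coeff s P₀ = if ∀ i, s i < p then coeff s P else 0 := by
        intro s
        simp only [P₀, coeff_sum, coeff_monomial, Finset.sum_ite_eq', Finset.mem_filter, mem_support_iff]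
        by_cases h1 : ∀ i, s i < p
        · by_cases h2 : coeff s P = 0 <;> simp [h1, h2]
        · simp [h1]
      have hbox : IsBox p P₀ := fun s hs i => by
        by_contra h
        rw [mem_support_iff, hcoeff, if_neg (fun h' => h (h' i))] at hs
        exact hs rfl
      have hhom : P₀.IsHomogeneous (e + 1) :=
        IsHomogeneous.sum _ _ _ fun s hs => isHomogeneous_monomial _ (by
          have h1 := hP (mem_support_iff.1 (Finset.mem_filter.1 hs).1)
          simpa [Finsupp.weight_apply, Finsupp.degree, Finsupp.sum] using h1)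
      have heval : aeval x P₀ = aeval x P := by
        conv_rhs => rw [P.as_sum]
        rw [map_sum, map_sum]
        refine Finset.sum_subset (Finset.filter_subset _ _) fun s hs hns => ?_
        obtain ⟨i, hi⟩ : ∃ i, p ≤ s i := by
          by_contra! h
          exact hns (Finset.mem_filter.2 ⟨hs, h⟩)
        rw [aeval_monomial, Finsupp.prod_fintype _ _ (fun _ => pow_zero _),
          ← Finset.mul_prod_erase _ _ (Finset.mem_univ i), ← Nat.add_sub_cancel' hi, pow_add, hA _ (hx i)]
        simp
      rw [← heval] at hP'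
      have h0 : P₀ = 0 := by
        refine eq_zero_of_pderiv_eq_zero p hbox hhom fun i => ?_
        refine eq_zero_of_box p x w hx hw hwx e _ (hbox.pderiv p i) hhom.pderiv
          (Groth.L08.AugGraded.pderiv_mem x w hx hw hwx hhom i ?_)
        have h1 := Groth.L25.DerReduced.derivation_pow (Groth.L08.AugGraded.invDer (w i) (hw i)) (e + 1) hP'
        rw [map_sub, Groth.L08.AugGraded.invDer_apply (a := a), hD _ (hw i), zero_sub, neg_mem_iff] at h1
        exact h1
      rw [h0, map_zero, sub_zero] at hP'
      exact hP'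
  have hnil : IsNilpotent m := (Ideal.FG.isNilpotent_iff_le_nilradical (IsNoetherian.noetherian m)).2
    fun f hf => mem_nilradical.2 ⟨p, hA f hf⟩
  obtain ⟨N, hN⟩ := hnil
  have := key N
  rwa [hN, Ideal.zero_eq_bot, Ideal.mem_bot] at this

omit [Algebra.FiniteType k A] in
theorem fAct_pow {V : Type v} [AddCommGroup V] [Module k V] [HopfRep.Comod k A V] (φ : WithConv (A →ₗ[k] k)) :
    ∀ n : ℕ, fAct V (φ ^ n).ofConv = (fAct V φ.ofConv : Module.End k V) ^ n := by
  intro n
  induction n with
  | zero => rw [pow_zero, pow_zero, Groth.L08.fAct_one]; rfl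
  | succ n ih => rw [pow_succ, pow_succ, Groth.L08.fAct_mul, ih]; rfl

end Groth.L01.Unip

namespace Groth.L01.Unip

variable {k : Type u} [Field k] {A : Type v} [CommRing A] [HopfAlgebra k A] [Algebra.FiniteType k A]

attribute [local instance 100] LieRing.ofAssociativeRing

/-- A group of height one with nilpotent tangent vectors is unipotent. -/
theorem isUnipotent_of_nilpotent (p : ℕ) [hp : Fact p.Prime] [CharP k p]
    (hA : ∀ f : A, Bialgebra.counitAlgHom k A f = 0 → f ^ p = 0)
    (hnil : ∀ w : A →ₗ[k] k, IsTangent k A w → IsNilpotent (toConv w)) : HopfRep.IsUnipotent k A := by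
  intro V _ _ _ hfin hnt hbot
  let L : LieSubalgebra k (Module.End k V) :=
    { carrier := {T | ∃ w, IsTangent k A w ∧ fAct V w = T}
      zero_mem' := ⟨0, fun a b => by simp, by
        show Groth.L08.fActL V (0 : A →ₗ[k] k) = 0
        exact map_zero _⟩
      add_mem' := by
        rintro _ _ ⟨u, hu, rfl⟩ ⟨w, hw, rfl⟩
        refine ⟨u + w, fun a b => ?_, ?_⟩
        · simp only [LinearMap.add_apply, hu a b, hw a b]; ring
        · show Groth.L08.fActL V (u + w) = _
          exact map_add _ _ _
      smul_mem' := by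
        rintro c _ ⟨w, hw, rfl⟩
        refine ⟨c • w, fun a b => ?_, ?_⟩
        · simp only [LinearMap.smul_apply, hw a b, smul_eq_mul]; ring
        · show Groth.L08.fActL V (c • w) = _
          exact map_smul _ _ _
      lie_mem' := by
        rintro _ _ ⟨u, hu, rfl⟩ ⟨w, hw, rfl⟩
        refine ⟨_, isTangent_bracket hu hw, ?_⟩
        rw [Ring.lie_def]
        show Groth.L08.fActL V (toConv u * toConv w - toConv w * toConv u).ofConv = _
        rw [show (toConv u * toConv w - toConv w * toConv u).ofConv =
          (toConv u * toConv w).ofConv - (toConv w * toConv u).ofConv from rfl, map_sub]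
        show fAct V (toConv u * toConv w).ofConv - fAct V (toConv w * toConv u).ofConv = _
        rw [Groth.L08.fAct_mul, Groth.L08.fAct_mul]
        rfl }
  haveI : LieModule.IsNilpotent L V := by
    rw [LieModule.isNilpotent_iff_forall' (R := k)]
    rintro ⟨T, w, hw, rfl⟩
    obtain ⟨n, hn⟩ := hnil w hw
    refine ⟨n, ?_⟩
    show (fAct V (toConv w).ofConv : Module.End k V) ^ n = 0
    rw [← fAct_pow, hn]
    show Groth.L08.fActL V (0 : A →ₗ[k] k) = 0
    exact map_zero _
  haveI := LieModule.nontrivial_max_triv_of_isNilpotent k L V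
  obtain ⟨⟨v, hv⟩, hv0⟩ := exists_ne (0 : LieModule.maxTrivSubmodule k L V)
  rw [LieModule.mem_maxTrivSubmodule] at hv
  have hkill : ∀ w, IsTangent k A w → fAct V w v = 0 := fun w hw => hv ⟨fAct V w, w, hw, rfl⟩
  have hmem : v ∈ HopfRep.fixedPts k A V := by
    rw [Groth.L08.mem_fixedPts_iff_fAct]
    intro φ
    refine (Module.forall_dual_apply_eq_zero_iff k _).1 (fun f => ?_) |> sub_eq_zero.1
    let a := Groth.L08.cf (A := A) f v
    have h1 : a - algebraMap k A (Bialgebra.counitAlgHom k A a) = 0 := by
      refine eq_zero_of_killed p hA (by simp) fun w hw => ?_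
      rw [map_sub, Groth.L08.cf_fAct, hkill w hw, map_zero, zero_sub, neg_eq_zero]
      have h2 := Groth.L08.AugGraded.invDer_apply w hw (algebraMap k A (Bialgebra.counitAlgHom k A a))
      rw [← h2]
      exact Derivation.map_algebraMap _ _
    rw [sub_eq_zero] at h1
    have hcoun : Coalgebra.counit (R := k) a = f v := by
      show Coalgebra.counit (R := k) (Groth.L08.cf f v) = f v
      rw [Groth.L08.apply_cf, Groth.L08.fAct_counit]
      rfl
    rw [map_sub, map_smul, ← Groth.L08.apply_cf φ f v, sub_eq_zero]
    show φ a = φ 1 • f v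
    rw [h1, Algebra.algebraMap_eq_smul_one, map_smul, Bialgebra.counitAlgHom_apply, hcoun, smul_eq_mul, smul_eq_mul, mul_comm]
  rw [hbot, Submodule.mem_bot] at hmem
  exact hv0 (Subtype.ext hmem)

end Groth.L01.Unip
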