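import Groth.Agent.L08.AugGraded
import Mathlib.RingTheory.Bialgebra.TensorProduct
import Mathlib.RingTheory.Coalgebra.Convolution
import Mathlib.Algebra.CharP.Lemmas
import Mathlib.Algebra.CharP.Algebra

/-!
# Functionals on a bialgebra evaluated on products
-/

set_option autoImplicit false

universe u v

open TensorProduct WithConv

noncomputable section

namespace Groth.L01.Unip

variable {k : Type u} [Field k] {A : Type v} [CommRing A] [Bialgebra k A]

/-- A coalgebra map induces a map of convolution rings. -/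
def convMap {C D : Type*} [AddCommGroup C] [Module k C] [Coalgebra k C] [AddCommGroup D] [Module k D]
    [Coalgebra k D] (h : D →ₗc[k] C) : WithConv (C →ₗ[k] k) →+* WithConv (D →ₗ[k] k) where
  toFun φ := toConv (φ.ofConv ∘ₗ (h : D →ₗ[k] C))
  map_one' := WithConv.ofConv_injective (LinearMap.ext fun x => by
    show (1 : WithConv (C →ₗ[k] k)).ofConv (h x) = (1 : WithConv (D →ₗ[k] k)).ofConv x
    simp)
  map_mul' φ ψ := WithConv.ofConv_injective (LinearMap.convMul_comp_coalgHom_distrib φ ψ h)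
  map_zero' := rfl
  map_add' _ _ := rfl

theorem convMap_apply {C D : Type*} [AddCommGroup C] [Module k C] [Coalgebra k C] [AddCommGroup D] [Module k D]
    [Coalgebra k D] (h : D →ₗc[k] C) (φ : WithConv (C →ₗ[k] k)) (x : D) :
    (convMap h φ).ofConv x = φ.ofConv (h x) := rfl

variable (k A) in
/-- Evaluation on products. -/
def mulC : WithConv (A →ₗ[k] k) →+* WithConv (A ⊗[k] A →ₗ[k] k) := convMap (Bialgebra.mulCoalgHom k A)

variable (k A) in
/-- A functional on the first factor. -/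
def ι₁ : WithConv (A →ₗ[k] k) →+* WithConv (A ⊗[k] A →ₗ[k] k) :=
  convMap (((Coalgebra.TensorProduct.rid k k A : A ⊗[k] k ≃ₗc[k] A) : A ⊗[k] k →ₗc[k] A).comp
    (Coalgebra.TensorProduct.map (CoalgHom.id k A) (Coalgebra.counitCoalgHom k A)))

variable (k A) in
/-- A functional on the second factor. -/
def ι₂ : WithConv (A →ₗ[k] k) →+* WithConv (A ⊗[k] A →ₗ[k] k) :=
  convMap (((Coalgebra.TensorProduct.lid k A : k ⊗[k] A ≃ₗc[k] A) : k ⊗[k] A →ₗc[k] A).comp
    (Coalgebra.TensorProduct.map (Coalgebra.counitCoalgHom k A) (CoalgHom.id k A)))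

theorem mulC_tmul (φ : WithConv (A →ₗ[k] k)) (a b : A) : (mulC k A φ).ofConv (a ⊗ₜ[k] b) = φ.ofConv (a * b) := rfl

theorem ι₁_tmul (φ : WithConv (A →ₗ[k] k)) (a b : A) :
    (ι₁ k A φ).ofConv (a ⊗ₜ[k] b) = φ.ofConv a * Coalgebra.counit (R := k) b := by
  show φ.ofConv (Coalgebra.counit (R := k) b • a) = _
  rw [map_smul, smul_eq_mul, mul_comm]

theorem ι₂_tmul (φ : WithConv (A →ₗ[k] k)) (a b : A) :
    (ι₂ k A φ).ofConv (a ⊗ₜ[k] b) = Coalgebra.counit (R := k) a * φ.ofConv b := by
  show φ.ofConv (Coalgebra.counit (R := k) a • b) = _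
  rw [map_smul, smul_eq_mul]

theorem ι_mul_tmul (φ ψ : WithConv (A →ₗ[k] k)) (a b : A) :
    (ι₁ k A φ * ι₂ k A ψ).ofConv (a ⊗ₜ[k] b) = φ.ofConv a * ψ.ofConv b ∧
      (ι₂ k A ψ * ι₁ k A φ).ofConv (a ⊗ₜ[k] b) = φ.ofConv a * ψ.ofConv b := by
  let ra := Coalgebra.Repr.arbitrary k a
  let rb := Coalgebra.Repr.arbitrary k b
  have ha1 := congrArg φ.ofConv (Coalgebra.sum_counit_smul (R := k) ra)
  have hb1 := congrArg ψ.ofConv (Coalgebra.sum_counit_smul (R := k) rb)
  constructor
  all_goals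
    rw [LinearMap.convMul_apply, TensorProduct.comul_tmul, ← ra.eq, ← rb.eq]
    simp only [TensorProduct.sum_tmul, TensorProduct.tmul_sum, map_sum, TensorProduct.AlgebraTensorModule.tensorTensorTensorComm_tmul,
      TensorProduct.map_tmul, LinearMap.mul'_apply, ι₁_tmul, ι₂_tmul]
  · have ha : φ.ofConv a = ∑ i ∈ ra.index, φ.ofConv (ra.left i) * Coalgebra.counit (R := k) (ra.right i) := by
      have h2 : φ.ofConv (TensorProduct.rid k A ((Coalgebra.counit (R := k)).lTensor A (Coalgebra.comul (R := k) a))) = φ.ofConv a := by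
        simp
      rw [← h2, ← ra.eq]
      simp only [map_sum, LinearMap.lTensor_tmul, TensorProduct.rid_tmul, map_smul, smul_eq_mul]
      exact Finset.sum_congr rfl fun i _ => mul_comm _ _
    have hb : ψ.ofConv b = ∑ j ∈ rb.index, Coalgebra.counit (R := k) (rb.left j) * ψ.ofConv (rb.right j) := by
      rw [← hb1]; simp [map_sum]
    rw [ha, hb, Finset.sum_mul_sum]
    rw [Finset.sum_comm]
    refine Finset.sum_congr rfl fun i _ => Finset.sum_congr rfl fun j _ => ?_
    ring
  · have ha : φ.ofConv a = ∑ i ∈ ra.index, Coalgebra.counit (R := k) (ra.left i) * φ.ofConv (ra.right i) := by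
      rw [← ha1]; simp [map_sum]
    have hb : ψ.ofConv b = ∑ j ∈ rb.index, ψ.ofConv (rb.left j) * Coalgebra.counit (R := k) (rb.right j) := by
      have h2 : ψ.ofConv (TensorProduct.rid k A ((Coalgebra.counit (R := k)).lTensor A (Coalgebra.comul (R := k) b))) = ψ.ofConv b := by
        simp
      rw [← h2, ← rb.eq]
      simp only [map_sum, LinearMap.lTensor_tmul, TensorProduct.rid_tmul, map_smul, smul_eq_mul]
      exact Finset.sum_congr rfl fun i _ => mul_comm _ _
    rw [ha, hb, Finset.sum_mul_sum]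
    rw [Finset.sum_comm]
    refine Finset.sum_congr rfl fun i _ => Finset.sum_congr rfl fun j _ => ?_
    ring

theorem ι_comm (φ ψ : WithConv (A →ₗ[k] k)) : Commute (ι₁ k A φ) (ι₂ k A ψ) :=
  WithConv.ofConv_injective (TensorProduct.ext' fun a b =>
    ((ι_mul_tmul φ ψ a b).1).trans ((ι_mul_tmul φ ψ a b).2).symm)

theorem isTangent_iff {w : A →ₗ[k] k} :
    Groth.L08.AugGraded.IsTangent k A w ↔ mulC k A (toConv w) = ι₁ k A (toConv w) + ι₂ k A (toConv w) := by
  constructor
  · intro h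
    refine WithConv.ofConv_injective (TensorProduct.ext' fun a b => ?_)
    show (mulC k A (toConv w)).ofConv (a ⊗ₜ[k] b) =
      (ι₁ k A (toConv w)).ofConv (a ⊗ₜ[k] b) + (ι₂ k A (toConv w)).ofConv (a ⊗ₜ[k] b)
    rw [mulC_tmul, ι₁_tmul, ι₂_tmul]
    show w (a * b) = _
    rw [h a b]
    simp only [Bialgebra.counitAlgHom_apply]
    show _ = w a * _ + _ * w b
    ring
  · intro h a b
    have h1 : (mulC k A (toConv w)).ofConv (a ⊗ₜ[k] b) =
        (ι₁ k A (toConv w)).ofConv (a ⊗ₜ[k] b) + (ι₂ k A (toConv w)).ofConv (a ⊗ₜ[k] b) :=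
      congrArg (fun z : WithConv (A ⊗[k] A →ₗ[k] k) => z.ofConv (a ⊗ₜ[k] b)) h
    rw [mulC_tmul, ι₁_tmul, ι₂_tmul] at h1
    show w (a * b) = _
    rw [show w (a * b) = _ from h1]
    simp only [Bialgebra.counitAlgHom_apply]
    show w a * _ + _ * w b = _
    ring

/-- The bracket of tangent vectors is a tangent vector. -/
theorem isTangent_bracket {u w : A →ₗ[k] k} (hu : Groth.L08.AugGraded.IsTangent k A u)
    (hw : Groth.L08.AugGraded.IsTangent k A w) :
    Groth.L08.AugGraded.IsTangent k A (toConv u * toConv w - toConv w * toConv u).ofConv := by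
  rw [isTangent_iff] at *
  rw [toConv_ofConv, map_sub, map_mul, map_mul, hu, hw]
  simp only [map_sub, map_mul, mul_add, add_mul, (ι_comm (toConv u) (toConv w)).eq,
    (ι_comm (toConv w) (toConv u)).eq]
  abel

/-- `p`-th convolution powers of tangent vectors are tangent vectors. -/
theorem isTangent_pow (p : ℕ) [Fact p.Prime] [CharP k p] {w : A →ₗ[k] k}
    (hw : Groth.L08.AugGraded.IsTangent k A w) (n : ℕ) :
    Groth.L08.AugGraded.IsTangent k A ((toConv w) ^ p ^ n).ofConv := by
  rw [isTangent_iff] at *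
  haveI : Nontrivial (WithConv (A ⊗[k] A →ₗ[k] k)) := by
    refine ⟨⟨0, 1, fun h => ?_⟩⟩
    have := congrArg (fun z : WithConv (A ⊗[k] A →ₗ[k] k) => z.ofConv ((1 : A) ⊗ₜ[k] (1 : A))) h
    simp at this
  haveI : CharP (WithConv (A ⊗[k] A →ₗ[k] k)) p :=
    charP_of_injective_algebraMap (algebraMap k (WithConv (A ⊗[k] A →ₗ[k] k))).injective p
  rw [toConv_ofConv, map_pow, hw, add_pow_char_pow_of_commute (p := p) (h := ι_comm _ _), map_pow, map_pow]

end Groth.L01.Unip
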