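import Groth.Agent.L01.Unip.CharSys
import Mathlib.RingTheory.Bialgebra.TensorProduct
import Mathlib.RingTheory.Jacobson.Ring
import Mathlib.LinearAlgebra.TensorProduct.Basis

/-!
# Descent of surjections onto group algebras
-/

set_option autoImplicit false

universe u v w

open TensorProduct WithConv

noncomputable section

namespace Groth.L01.Unip

/-- A finitely generated domain over an algebraically closed field has a point. -/
theorem exists_point {k : Type u} [Field k] [IsAlgClosed k] (R : Type*) [CommRing R] [Nontrivial R] [Algebra k R]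
    [Algebra.FiniteType k R] : Nonempty (R →ₐ[k] k) := by
  obtain ⟨m, hm⟩ := Ideal.exists_maximal R
  letI := Ideal.Quotient.field m
  haveI : Algebra.FiniteType k (R ⧸ m) :=
    Algebra.FiniteType.of_surjective (Ideal.Quotient.mkₐ k m) Ideal.Quotient.mk_surjective
  haveI : Module.Finite k (R ⧸ m) := finite_of_finite_type_of_isJacobsonRing k (R ⧸ m)
  exact ⟨((AlgEquiv.ofBijective (Algebra.ofId k (R ⧸ m))
    IsAlgClosed.algebraMap_bijective_of_isIntegral).symm : (R ⧸ m) →ₐ[k] k).comp (Ideal.Quotient.mkₐ k m)⟩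

variable {k : Type u} [Field k] {A : Type v} [CommRing A] [Bialgebra k A] {G : Type w} [CommGroup G] [Fintype G]
  [DecidableEq G] {K : Type u} [Field K] [Algebra k K]

/-- The functionals of a homomorphism defined over an extension. -/
def coords (ψ : K ⊗[k] A →ₐc[K] MonoidAlgebra K G) (g : G) : A →ₗ[k] K where
  toFun a := (ψ ((1 : K) ⊗ₜ[k] a)).coeff g
  map_add' a b := by rw [TensorProduct.tmul_add, map_add, MonoidAlgebra.coeff_add, Finsupp.add_apply]
  map_smul' c a := by
    rw [TensorProduct.tmul_smul, ← algebraMap_smul K c ((1 : K) ⊗ₜ[k] a), map_smul, MonoidAlgebra.coeff_smul,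
      Finsupp.smul_apply, algebraMap_smul]
    rfl

theorem coords_apply (ψ : K ⊗[k] A →ₐc[K] MonoidAlgebra K G) (g : G) (a : A) :
    coords ψ g a = (ψ ((1 : K) ⊗ₜ[k] a)).coeff g := rfl

omit [DecidableEq G] in
theorem eq_sum_coords (ψ : K ⊗[k] A →ₐc[K] MonoidAlgebra K G) (a : A) :
    ψ ((1 : K) ⊗ₜ[k] a) = ∑ g, MonoidAlgebra.single g (coords ψ g a) := by
  classical
  refine MonoidAlgebra.ext (Finsupp.ext fun h => ?_)
  rw [MonoidAlgebra.coeff_sum, Finset.sum_apply']
  simp [MonoidAlgebra.coeff_single, Finsupp.single_apply, coords_apply]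

theorem isCharSys_coords (ψ : K ⊗[k] A →ₐc[K] MonoidAlgebra K G) : IsCharSys (coords ψ) := by
  classical
  refine ⟨fun g => ?_, fun g x y => ?_, fun x => ?_, fun g h => ?_⟩
  · rw [coords_apply, ← Algebra.TensorProduct.one_def, map_one, MonoidAlgebra.one_def, MonoidAlgebra.coeff_single,
      Finsupp.single_apply]
    simp [eq_comm]
  · rw [coords_apply, show (1 : K) ⊗ₜ[k] (x * y) = ((1 : K) ⊗ₜ[k] x) * ((1 : K) ⊗ₜ[k] y) by
      rw [Algebra.TensorProduct.tmul_mul_tmul, _root_.mul_one], map_mul, eq_sum_coords, eq_sum_coords,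
      Finset.sum_mul_sum, MonoidAlgebra.coeff_sum, Finset.sum_apply']
    refine Finset.sum_congr rfl fun a _ => ?_
    rw [MonoidAlgebra.coeff_sum, Finset.sum_apply', Finset.sum_eq_single (a⁻¹ * g)]
    · simp [MonoidAlgebra.single_mul_single]
    · intro b _ hb
      rw [MonoidAlgebra.single_mul_single, MonoidAlgebra.coeff_single, Finsupp.single_apply, if_neg]
      exact fun h => hb (by rw [← h, inv_mul_cancel_left])
    · exact fun h => absurd (Finset.mem_univ _) h
  · have h1 : Coalgebra.counit (R := K) (ψ ((1 : K) ⊗ₜ[k] x)) = Coalgebra.counit (R := K) ((1 : K) ⊗ₜ[k] x) :=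
      CoalgHomClass.counit_comp_apply ψ _
    rw [eq_sum_coords, map_sum] at h1
    simp only [MonoidAlgebra.counit_single, CommSemiring.counit_apply] at h1
    rw [h1]
    simp [Algebra.algebraMap_eq_smul_one]
  · refine WithConv.ofConv_injective (LinearMap.ext fun a => ?_)
    let r := Coalgebra.Repr.arbitrary k a
    let P : MonoidAlgebra K G ⊗[K] MonoidAlgebra K G →ₗ[K] K := LinearMap.mul' K K ∘ₗ
      TensorProduct.map (Finsupp.lapply g ∘ₗ (MonoidAlgebra.coeffLinearEquiv K).toLinearMap)
        (Finsupp.lapply h ∘ₗ (MonoidAlgebra.coeffLinearEquiv K).toLinearMap)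
    have hP : ∀ u v : MonoidAlgebra K G, P (u ⊗ₜ[K] v) = u.coeff g * v.coeff h := fun u v => rfl
    have hcom : Coalgebra.comul (R := K) ((1 : K) ⊗ₜ[k] a) =
        ∑ i ∈ r.index, ((1 : K) ⊗ₜ[k] r.left i) ⊗ₜ[K] ((1 : K) ⊗ₜ[k] r.right i) := by
      rw [TensorProduct.comul_tmul, ← r.eq, CommSemiring.comul_apply, TensorProduct.tmul_sum, map_sum]
      rfl
    have h1 := congrArg P (CoalgHomClass.map_comp_comul_apply ψ ((1 : K) ⊗ₜ[k] a))
    rw [hcom, map_sum, map_sum, eq_sum_coords, map_sum, map_sum] at h1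
    rw [LinearMap.convMul_apply, ← r.eq, map_sum, map_sum]
    simp only [TensorProduct.map_tmul, LinearMap.mul'_apply]
    refine (Finset.sum_congr rfl fun i _ => ?_).trans (h1.trans ?_)
    · exact (hP _ _).symm
    · rw [Finset.sum_eq_single g]
      · rw [MonoidAlgebra.comul_single, CommSemiring.comul_apply, TensorProduct.map_tmul]
        show P (MonoidAlgebra.single g (1 : K) ⊗ₜ[K] MonoidAlgebra.single g (coords ψ g a)) = _
        rw [hP, MonoidAlgebra.coeff_single, MonoidAlgebra.coeff_single, Finsupp.single_apply, Finsupp.single_apply, if_pos rfl,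
          _root_.one_mul]
        split_ifs <;> rfl
      · intro b _ hb
        rw [MonoidAlgebra.comul_single, CommSemiring.comul_apply, TensorProduct.map_tmul]
        show P (MonoidAlgebra.single b (1 : K) ⊗ₜ[K] MonoidAlgebra.single b (coords ψ b a)) = _
        rw [hP, MonoidAlgebra.coeff_single, Finsupp.single_apply, if_neg hb, zero_mul]
      · exact fun h => absurd (Finset.mem_univ _) h

/-- A closed subgroup `D(G)` defined over an extension of an algebraically closed field is defined over it. -/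
theorem exists_surjective_of_baseChange [IsAlgClosed k] [Algebra.FiniteType k A]
    (ψ : K ⊗[k] A →ₐc[K] MonoidAlgebra K G) (hψ : Function.Surjective ψ) :
    ∃ φ : A →ₐc[k] MonoidAlgebra k G, Function.Surjective φ := by
  classical
  have hs := isCharSys_coords ψ
  obtain ⟨s, hsA⟩ := Algebra.FiniteType.out (R := k) (A := A)
  choose z hz using fun g : G => hψ (MonoidAlgebra.single g (1 : K))
  choose S hS using fun g => TensorProduct.exists_finset (z g)
  let T : Finset K := (Finset.univ.biUnion fun g => s.image (coords ψ g)) ∪ Finset.univ.biUnion fun g => (S g).image Prod.fst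
  let R : Subalgebra k K := Algebra.adjoin k (T : Set K)
  haveI : Algebra.FiniteType k R := by
    rw [← Subalgebra.fg_iff_finiteType]
    exact Subalgebra.fg_adjoin_finset T
  have hR : ∀ g x, coords ψ g x ∈ R := by
    intro g x
    have hx : x ∈ Algebra.adjoin k (s : Set A) := hsA ▸ Algebra.mem_top
    induction hx using Algebra.adjoin_induction generalizing g with
    | mem y hy => exact Algebra.subset_adjoin (Finset.mem_union_left _ (Finset.mem_biUnion.2 ⟨g, Finset.mem_univ _, Finset.mem_image_of_mem _ hy⟩))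
    | algebraMap c =>
      rw [Algebra.algebraMap_eq_smul_one, map_smul, hs.one]
      exact R.smul_mem (by split_ifs <;> simp [zero_mem, one_mem]) c
    | add a b _ _ ha hb => rw [map_add]; exact add_mem (ha g) (hb g)
    | mul a b _ _ ha hb => rw [hs.mul]; exact sum_mem fun i _ => mul_mem (ha i) (hb _)
  obtain ⟨χ⟩ := exists_point (k := k) R
  have h' := hs.push R hR χ
  refine ⟨h'.hom, h'.surjective fun g h0 => ?_⟩
  have hc : ∀ i ∈ S g, i.1 ∈ R := fun i hi => Algebra.subset_adjoin
    (Finset.mem_union_right _ (Finset.mem_biUnion.2 ⟨g, Finset.mem_univ _, Finset.mem_image_of_mem _ hi⟩))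
  have h1 : (ψ (z g)).coeff g = ∑ i ∈ S g, i.1 * coords ψ g i.2 := by
    rw [hS g, map_sum, MonoidAlgebra.coeff_sum, Finset.sum_apply']
    refine Finset.sum_congr rfl fun i _ => ?_
    rw [show i.1 ⊗ₜ[k] i.2 = i.1 • ((1 : K) ⊗ₜ[k] i.2) by rw [TensorProduct.smul_tmul', smul_eq_mul, _root_.mul_one],
      map_smul, MonoidAlgebra.coeff_smul, Finsupp.smul_apply, smul_eq_mul]
    rfl
  rw [hz g, MonoidAlgebra.coeff_single, Finsupp.single_eq_same] at h1
  have h2 : (1 : R) = ∑ i ∈ (S g).attach, (⟨i.1.1, hc i.1 i.2⟩ : R) * ⟨coords ψ g i.1.2, hR g _⟩ := by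
    refine Subtype.ext ?_
    rw [AddSubmonoidClass.coe_finsetSum]
    show (1 : K) = ∑ i ∈ (S g).attach, i.1.1 * coords ψ g i.1.2
    rw [Finset.sum_attach (S g) fun i => i.1 * coords ψ g i.2]
    exact h1
  have h3 := congrArg χ h2
  rw [map_one, map_sum] at h3
  refine one_ne_zero (h3.trans (Finset.sum_eq_zero fun i _ => ?_))
  rw [map_mul, show χ ⟨coords ψ g i.1.2, hR g _⟩ = 0 from LinearMap.congr_fun h0 i.1.2, mul_zero]

end Groth.L01.Unip
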