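import Groth.Agent.L01.Unip.UnipPt
import Groth.Agent.L08.Subcoalg
import Mathlib.Algebra.Ring.GeomSum
import Mathlib.RingTheory.Filtration

/-!
# In a connected group a power-unipotent generic point forces all points to be unipotent
-/

set_option autoImplicit false

universe u v w

open TensorProduct WithConv

noncomputable section

namespace Groth.L01.Unip

variable {k : Type u} [Field k] {B : Type v} [CommRing B] [Bialgebra k B]

/-- Post-composition with an algebra map, on convolution rings. -/
def postMap {R : Type*} [CommRing R] [Algebra k R] {S : Type*} [CommRing S] [Algebra k S] (f : R →ₐ[k] S) :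
    WithConv (B →ₗ[k] R) →+* WithConv (B →ₗ[k] S) where
  toFun φ := toConv (f.toLinearMap ∘ₗ φ.ofConv)
  map_one' := WithConv.ofConv_injective (LinearMap.ext fun a => by
    show f ((1 : WithConv (B →ₗ[k] R)).ofConv a) = (1 : WithConv (B →ₗ[k] S)).ofConv a
    simp)
  map_mul' φ ψ := WithConv.ofConv_injective (LinearMap.algHom_comp_convMul_distrib f φ ψ)
  map_zero' := WithConv.ofConv_injective (LinearMap.comp_zero _)
  map_add' _ _ := WithConv.ofConv_injective (LinearMap.comp_add _ _ _)

theorem postMap_apply {R : Type*} [CommRing R] [Algebra k R] {S : Type*} [CommRing S] [Algebra k S] (f : R →ₐ[k] S)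
    (φ : WithConv (B →ₗ[k] R)) (a : B) : (postMap f φ).ofConv a = f (φ.ofConv a) := rfl

theorem convMul_mem {R : Type*} [CommRing R] [Algebra k R] {J : Ideal R} {φ ψ : WithConv (B →ₗ[k] R)}
    (h : ∀ a, ψ.ofConv a ∈ J) (a : B) : (φ * ψ).ofConv a ∈ J := by
  rw [LinearMap.convMul_apply]
  induction Coalgebra.comul (R := k) a with
  | zero => simp
  | add p q hp hq => rw [map_add, map_add]; exact add_mem hp hq
  | tmul p q => rw [TensorProduct.map_tmul, LinearMap.mul'_apply]; exact J.mul_mem_left _ (h q)

theorem pow_mem_pow {R : Type*} [CommRing R] [Algebra k R] {J : Ideal R} {φ : WithConv (B →ₗ[k] R)}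
    (h : ∀ a, φ.ofConv a ∈ J) : ∀ (n : ℕ) (a : B), (φ ^ n).ofConv a ∈ J ^ n := by
  intro n
  induction n with
  | zero => intro a; simp
  | succ n ih =>
    intro a
    rw [pow_succ, pow_succ, LinearMap.convMul_apply]
    induction Coalgebra.comul (R := k) a with
    | zero => simp
    | add p q hp hq => rw [map_add, map_add]; exact add_mem hp hq
    | tmul p q => rw [TensorProduct.map_tmul, LinearMap.mul'_apply]; exact Ideal.mul_mem_mul (ih p) (h q)

theorem vanish_mul_left {R : Type*} [CommRing R] [Algebra k R] {D : Submodule k B} (hD : Groth.L08.IsSubcoalg D)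
    {z : WithConv (B →ₗ[k] R)} (hz : ∀ d ∈ D, z.ofConv d = 0) (y : WithConv (B →ₗ[k] R)) :
    ∀ d ∈ D, (y * z).ofConv d = 0 := by
  intro d hd
  obtain ⟨t, ht⟩ := hD d hd
  rw [LinearMap.convMul_apply, ← ht, ← LinearMap.comp_apply (TensorProduct.map y.ofConv z.ofConv), ← TensorProduct.map_comp,
    show z.ofConv ∘ₗ D.subtype = 0 from LinearMap.ext fun e => hz e e.2, TensorProduct.map_zero_right]
  simp

variable (k B) in
/-- The universal point. -/
def univ : WithConv (B →ₗ[k] B) := toConv LinearMap.id

theorem postMap_univ {S : Type*} [CommRing S] [Algebra k S] (f : B →ₐ[k] S) :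
    postMap f (univ k B) = toConv f.toLinearMap := rfl

/-- In an integral group, if a power prime to the characteristic of the universal point is unipotent,
all points are unipotent. -/
theorem isUnipPt_of_univ [IsDomain B] [IsNoetherianRing B] {N : ℕ} (hN : (N : k) ≠ 0)
    (h : ∀ a, ∃ m, ∀ n, m ≤ n → ((univ k B ^ N - 1) ^ n).ofConv a = 0) (g : WithConv (B →ₐ[k] k)) : IsUnipPt g := by
  intro a
  obtain ⟨D, hfin, haD, hD⟩ := Groth.L08.exists_finite_subcoalg (k := k) ({a} : Finset B)
  obtain ⟨s, hs⟩ := (Module.Finite.iff_fg.1 hfin)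
  choose m hm using h
  set X := univ k B with hX
  let M := s.sup m
  have hvan : ∀ d ∈ D, ((X ^ N - 1) ^ M).ofConv d = 0 := by
    have : D ≤ LinearMap.ker ((X ^ N - 1) ^ M).ofConv := by
      rw [← hs, Submodule.span_le]
      exact fun d hd => hm d M (Finset.le_sup (Finset.mem_coe.1 hd))
    exact fun d hd => this hd
  let U : WithConv (B →ₗ[k] B) := X - 1
  let H : WithConv (B →ₗ[k] B) := ∑ i ∈ Finset.range N, X ^ i
  let c : WithConv (B →ₗ[k] B) := algebraMap k _ (N : k)
  have hUX : Commute U X := (Commute.refl X).sub_left (Commute.one_left X)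
  have hUH : Commute U H := Commute.sum_right _ _ _ fun i _ => hUX.pow_right i
  have hcH : Commute H c := Algebra.commute_algebraMap_right _ _
  let q : WithConv (B →ₗ[k] B) := ∑ i ∈ Finset.range M, H ^ i * c ^ (M - 1 - i)
  have hq : q * (H - c) = H ^ M - c ^ M := hcH.geom_sum₂_mul M
  let r : WithConv (B →ₗ[k] B) := -(((N : k) ^ M)⁻¹ • (q * (H - c)))
  have hεc : postMap (Bialgebra.counitAlgHom k B) (H - c) = 0 := by
    have h1 : postMap (Bialgebra.counitAlgHom k B) X = 1 := WithConv.ofConv_injective (LinearMap.ext fun a => by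
      rw [hX, postMap_univ]; simp)
    rw [map_sub, map_sum]
    simp only [map_pow, h1, one_pow, Finset.sum_const, Finset.card_range, nsmul_eq_mul, _root_.mul_one]
    rw [show c = ((N : ℕ) : WithConv (B →ₗ[k] B)) from map_natCast _ _, map_natCast, sub_self]
  have hr : ∀ b, r.ofConv b ∈ RingHom.ker (Bialgebra.counitAlgHom k B) := by
    intro b
    rw [RingHom.mem_ker, ← postMap_apply, show r = -(((N : k) ^ M)⁻¹ • (q * (H - c))) from rfl, map_neg, Algebra.smul_def,
      map_mul, map_mul, hεc, mul_zero, mul_zero, neg_zero]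
    rfl
  have hUr : Commute U r := by
    have hUc : Commute U c := Algebra.commute_algebraMap_right _ _
    have : Commute U q := Commute.sum_right _ _ _ fun i _ => (hUH.pow_right i).mul_right (hUc.pow_right _)
    exact ((this.mul_right (hUH.sub_right hUc)).smul_right _).neg_right
  have hz : ∀ d ∈ D, (U ^ M * (1 - r)).ofConv d = 0 := by
    have e : U ^ M * (1 - r) = ((N : k) ^ M)⁻¹ • (X ^ N - 1) ^ M := by
      have hg : (X ^ N - 1) ^ M = U ^ M * H ^ M := by
        rw [← hUH.mul_pow, show U * H = H * U from hUH.eq, geom_sum_mul]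
      rw [hg, show H ^ M = c ^ M + q * (H - c) by rw [hq]; abel, mul_add, smul_add, mul_sub, _root_.mul_one,
        show r = -(((N : k) ^ M)⁻¹ • (q * (H - c))) from rfl, mul_neg, sub_neg_eq_add, mul_smul_comm]
      congr 1
      rw [← map_pow, ← Algebra.commutes, ← Algebra.smul_def, smul_smul, inv_mul_cancel₀ (pow_ne_zero _ hN), one_smul]
    intro d hd
    rw [e]
    show ((N : k) ^ M)⁻¹ • ((X ^ N - 1) ^ M).ofConv d = 0
    rw [hvan d hd, smul_zero]
  have hit : ∀ n, ∀ d ∈ D, (U ^ M).ofConv d = (U ^ M * r ^ n).ofConv d := by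
    intro n
    induction n with
    | zero => intro d _; rw [pow_zero, _root_.mul_one]
    | succ n ih =>
      intro d hd
      have h1 := vanish_mul_left hD hz (r ^ n) d hd
      rw [← mul_assoc, show r ^ n * U ^ M = U ^ M * r ^ n from (hUr.pow_pow M n).eq.symm, mul_sub, _root_.mul_one,
        mul_assoc, ← pow_succ] at h1
      rw [ih d hd]
      exact sub_eq_zero.1 h1
  have hU0 : ∀ d ∈ D, (U ^ M).ofConv d = 0 := by
    intro d hd
    have hmem : (U ^ M).ofConv d ∈ ⨅ n, RingHom.ker (Bialgebra.counitAlgHom k B) ^ n :=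
      Ideal.mem_iInf.2 fun n => by rw [hit n d hd]; exact convMul_mem (pow_mem_pow hr n) d
    rwa [Ideal.iInf_pow_eq_bot_of_isDomain _ (RingHom.ker_ne_top _), Ideal.mem_bot] at hmem
  refine ⟨M, fun n hn => ?_⟩
  have h2 : (lin k B g - 1) ^ n = postMap g.ofConv (U ^ n) := by
    rw [map_pow, map_sub, map_one, hX, postMap_univ]
    rfl
  rw [h2, postMap_apply, ← Nat.sub_add_cancel hn, pow_add, vanish_mul_left hD hU0 _ a (haD (Finset.mem_singleton_self a)),
    map_zero]

end Groth.L01.Unip
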