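import Groth.Agent.L01.Unip.MuP
import Groth.Agent.L25.HopfFlatGen
import Groth.Agent.L25.MultType.Subgroup
import Groth.Agent.L25.MultType.KillTrivial
import Groth.Agent.S4128
import Groth.Agent.S5422
import Groth.Agent.L08.HopfImage
import Mathlib.RingTheory.Bialgebra.TensorProduct
import Mathlib.RingTheory.HopfAlgebra.MonoidAlgebra

/-!
# Subgroups `D(G)` and the Frobenius
-/

set_option autoImplicit false

universe u w

open TensorProduct WithConv
open Groth.L08.TruncatedHopf (frobIdeal isHopfIdeal_frobIdeal frobSub isHopfSubalgebra_frobSub)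

noncomputable section

namespace Groth.L01.Unip

variable {k : Type u} [Field k] (p : ℕ) [hp : Fact p.Prime] [CharP k p] {A : Type u} [CommRing A] [HopfAlgebra k A]

/-- The first Frobenius kernel. -/
abbrev Frob₁ (A : Type u) [CommRing A] [HopfAlgebra k A] : Type u := A ⧸ frobIdeal (k := k) p A

theorem frob₁_heightOne : letI := isHopfIdeal_frobIdeal (k := k) p (A := A)
    ∀ f : Frob₁ (k := k) p A, Bialgebra.counitAlgHom k (Frob₁ (k := k) p A) f = 0 → f ^ p = 0 := by
  haveI := isHopfIdeal_frobIdeal (k := k) p (A := A)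
  intro f hf
  obtain ⟨a, rfl⟩ := Ideal.Quotient.mk_surjective f
  rw [← map_pow, Ideal.Quotient.eq_zero_iff_mem]
  exact Ideal.subset_span ⟨a, hf, rfl⟩

theorem frob₁_finite [Algebra.FiniteType k A] : Module.Finite k (Frob₁ (k := k) p A) := by
  haveI := isHopfIdeal_frobIdeal (k := k) p (A := A)
  haveI : Algebra.IsIntegral k (Frob₁ (k := k) p A) := ⟨fun f => by
    have h0 : IsNilpotent (f - algebraMap k _ (Bialgebra.counitAlgHom k (Frob₁ (k := k) p A) f)) :=
      ⟨p, frob₁_heightOne p _ (by simp)⟩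
    obtain ⟨n, hn⟩ := h0
    refine ⟨(Polynomial.X - Polynomial.C (Bialgebra.counitAlgHom k (Frob₁ (k := k) p A) f)) ^ n, (Polynomial.monic_X_sub_C _).pow n, ?_⟩
    rw [Polynomial.eval₂_pow, Polynomial.eval₂_sub, Polynomial.eval₂_X, Polynomial.eval₂_C, hn]⟩
  haveI : Algebra.FiniteType k (Frob₁ (k := k) p A) :=
    Algebra.FiniteType.of_surjective (Ideal.Quotient.mkₐ k _) Ideal.Quotient.mk_surjective
  exact Algebra.IsIntegral.finite

omit hp [CharP k p] in
/-- An algebra map agreeing with a bialgebra map along a surjective bialgebra map is a bialgebra map. -/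
theorem exists_bialgHom_of_comp {K : Type*} [CommRing K] {X Y Z : Type*} [CommRing X] [Bialgebra K X] [CommRing Y]
    [Bialgebra K Y] [CommRing Z] [Bialgebra K Z] (q : X →ₐc[K] Y) (hq : Function.Surjective q) (ψ : X →ₐc[K] Z)
    (h : ∀ x, q x = 0 → ψ x = 0) : ∃ g : Y →ₐc[K] Z, ∀ x, g (q x) = ψ x := by
  let g : Y →ₐ[K] Z := AlgHom.liftOfSurjective (q : X →ₐ[K] Y) hq (ψ : X →ₐ[K] Z) fun x hx => h x hx
  have hg : ∀ x, g (q x) = ψ x := fun x => AlgHom.liftOfSurjective_apply (q : X →ₐ[K] Y) hq (ψ : X →ₐ[K] Z) (fun x hx => h x hx) x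
  refine ⟨BialgHom.ofAlgHom g (AlgHom.ext fun y => ?_) (AlgHom.ext fun y => ?_), hg⟩
  · obtain ⟨x, rfl⟩ := hq y
    show Coalgebra.counit (R := K) (g (q x)) = Coalgebra.counit (R := K) (q x)
    rw [hg, CoalgHomClass.counit_comp_apply ψ, CoalgHomClass.counit_comp_apply q]
  · obtain ⟨x, rfl⟩ := hq y
    show TensorProduct.map g.toLinearMap g.toLinearMap (Coalgebra.comul (R := K) (q x)) = Coalgebra.comul (R := K) (g (q x))
    rw [hg, ← CoalgHomClass.map_comp_comul_apply q, ← CoalgHomClass.map_comp_comul_apply ψ]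
    induction Coalgebra.comul (R := K) x with
    | zero => simp
    | add a b ha hb => simp only [map_add, ha, hb]
    | tmul a b =>
      simp only [TensorProduct.map_tmul]
      exact congrArg₂ _ (hg a) (hg b)

omit hp in
theorem pow_eq_algebraMap {K : Type*} [CommRing K] [Algebra k K] [Nontrivial K] {G : Type*} [CommGroup G] [Fact p.Prime]
    (hG : ∀ g : G, g ^ p = 1) (x : MonoidAlgebra K G) :
    x ^ p = algebraMap K (MonoidAlgebra K G) (Coalgebra.counit (R := K) x ^ p) := by
  haveI : CharP K p := charP_of_injective_algebraMap (algebraMap k K).injective p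
  haveI : CharP (MonoidAlgebra K G) p := charP_of_injective_algebraMap (FaithfulSMul.algebraMap_injective K (MonoidAlgebra K G)) p
  induction x using MonoidAlgebra.induction_linear with
  | zero => simp [zero_pow (Fact.out : p.Prime).ne_zero]
  | add a b ha hb => rw [add_pow_char, ha, hb, map_add (Coalgebra.counit (R := K)), add_pow_char, map_add]
  | single g r =>
    rw [MonoidAlgebra.single_pow, hG, MonoidAlgebra.counit_single, CommSemiring.counit_apply]
    rfl

/-- A `μ_p` over an extension lies in the first Frobenius kernel. -/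
theorem exists_mu_frob₁ {K : Type u} [Field K] [Algebra k K] {G : Type*} [CommGroup G] (hG : ∀ g : G, g ^ p = 1)
    (ψ : K ⊗[k] A →ₐc[K] MonoidAlgebra K G) (hψ : Function.Surjective ψ) :
    letI := isHopfIdeal_frobIdeal (k := k) p (A := A)
    ∃ φ : K ⊗[k] Frob₁ (k := k) p A →ₐc[K] MonoidAlgebra K G, Function.Surjective φ := by
  haveI := isHopfIdeal_frobIdeal (k := k) p (A := A)
  let π : A →ₐc[k] Frob₁ (k := k) p A := Bialgebra.Quotient.mkBialgHom _
  let q : K ⊗[k] A →ₐc[K] K ⊗[k] Frob₁ (k := k) p A := Bialgebra.TensorProduct.map (BialgHom.id K K) π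
  have hπ : Function.Surjective (π : A →ₐ[k] Frob₁ (k := k) p A) := Ideal.Quotient.mk_surjective
  have hq : Function.Surjective q :=
    LinearMap.lTensor_surjective (R := k) K (g := (π : A →ₐ[k] Frob₁ (k := k) p A).toLinearMap) hπ
  obtain ⟨g, hg⟩ := exists_bialgHom_of_comp q hq ψ fun x hx => by
    have h0 : x ∈ RingHom.ker (Algebra.TensorProduct.map (AlgHom.id k K) (π : A →ₐ[k] Frob₁ (k := k) p A)) := hx
    rw [Algebra.TensorProduct.lTensor_ker _ hπ] at h0
    refine (Ideal.map_le_iff_le_comap (K := RingHom.ker (ψ : K ⊗[k] A →ₐ[K] MonoidAlgebra K G))).2 (fun a ha => ?_) h0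
    have ha' : a ∈ frobIdeal (k := k) p A := Ideal.Quotient.eq_zero_iff_mem.1 ha
    induction ha' using Submodule.span_induction with
    | mem y hy =>
      obtain ⟨b, hb, rfl⟩ := hy
      rw [Ideal.mem_comap, RingHom.mem_ker]
      show ψ ((1 : K) ⊗ₜ[k] (b ^ p)) = 0
      rw [show (1 : K) ⊗ₜ[k] (b ^ p) = ((1 : K) ⊗ₜ[k] b) ^ p by rw [Algebra.TensorProduct.tmul_pow, one_pow], map_pow,
        pow_eq_algebraMap (k := k) p hG, CoalgHomClass.counit_comp_apply ψ]
      have hb' : Coalgebra.counit (R := k) b = 0 := hb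
      simp [hb', zero_pow hp.out.ne_zero]
    | zero => exact zero_mem _
    | add a b _ _ h1 h2 => exact add_mem (h1 (RingHom.mem_ker.2 (Ideal.Quotient.eq_zero_iff_mem.2 ‹_›))) (h2 (RingHom.mem_ker.2 (Ideal.Quotient.eq_zero_iff_mem.2 ‹_›)))
    | smul c a _ h1 => exact Ideal.mul_mem_left _ c (h1 (RingHom.mem_ker.2 (Ideal.Quotient.eq_zero_iff_mem.2 ‹_›)))
  exact ⟨g, fun z => by obtain ⟨x, hx⟩ := hψ z; exact ⟨q x, (hg x).trans hx⟩⟩

/-- Over an algebraically closed field a group without `μ_p` has unipotent first Frobenius kernel. -/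
theorem isUnipotent_frob₁_of_noMu [IsAlgClosed k] [Algebra.FiniteType k A]
    (h : ¬ ∃ φ : A →ₐc[k] MonoidAlgebra k (Multiplicative (ZMod p)), Function.Surjective φ) :
    letI := isHopfIdeal_frobIdeal (k := k) p (A := A)
    HopfRep.IsUnipotent k (Frob₁ (k := k) p A) := by
  haveI := isHopfIdeal_frobIdeal (k := k) p (A := A)
  haveI := frob₁_finite (k := k) p (A := A)
  refine isUnipotent_of_nilpotent p (frob₁_heightOne p) fun w hw => ?_
  by_contra hn
  obtain ⟨f, hf⟩ := exists_mu_of_tangent p hw hn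
  exact h ⟨f.comp (Bialgebra.Quotient.mkBialgHom _), hf.comp Ideal.Quotient.mk_surjective⟩


/-- Subgroups `D(G)` lift through the Frobenius when the first Frobenius kernel is unipotent. -/
theorem exists_lift [IsAlgClosed k] [Algebra.FiniteType k A] {B : Subalgebra k A} (hB : SGA3.IsHopfSubalgebra k A B)
    (hBJ : Ideal.span {b : A | b ∈ B ∧ Bialgebra.counitAlgHom k A b = 0} = frobIdeal (k := k) p A)
    (hJU : letI := isHopfIdeal_frobIdeal (k := k) p (A := A)
      HopfRep.IsUnipotent k (Frob₁ (k := k) p A))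
    {G : Type w} [CommGroup G] [Small.{u} G]
    (φ : letI := Groth.L25.HopfSub.hopfAlgebra hB
      B →ₐc[k] MonoidAlgebra k G)
    (hφ : Function.Surjective φ) : ∃ f : A →ₐc[k] MonoidAlgebra k G, Function.Surjective f := by
  letI := Groth.L25.HopfSub.hopfAlgebra hB
  haveI := isHopfIdeal_frobIdeal (k := k) p (A := A)
  haveI : Module.FaithfullyFlat B A := Groth.L25.HopfFlat.faithfullyFlat B hB
  let inc := Groth.L25.HopfSub.inclBialg hB
  let I : Ideal B := RingHom.ker (φ : B →ₐ[k] MonoidAlgebra k G)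
  let IA : Ideal A := I.map (algebraMap B A)
  have hinc : ∀ b : B, inc b = algebraMap B A b := fun _ => rfl
  let π₀ : A →ₐ[k] A ⧸ IA := Ideal.Quotient.mkₐ k IA
  have hkill : ∀ b ∈ I, π₀ (inc b) = 0 := fun b hb =>
    Ideal.Quotient.eq_zero_iff_mem.2 (Ideal.mem_map_of_mem _ hb)
  let η₀ : MonoidAlgebra k G →ₐ[k] A ⧸ IA :=
    AlgHom.liftOfSurjective (φ : B →ₐ[k] MonoidAlgebra k G) hφ (π₀.comp (inc : B →ₐ[k] A)) fun b hb => hkill b hb
  have hη₀ : ∀ b, η₀ (φ b) = π₀ (inc b) := fun b =>
    AlgHom.liftOfSurjective_apply (φ : B →ₐ[k] MonoidAlgebra k G) hφ (π₀.comp (inc : B →ₐ[k] A)) (fun b hb => hkill b hb) b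
  haveI hIA : IA.IsHopfIdeal k := by
    have hle : ∀ {X : Type u} [CommRing X] [Algebra k X] (F : A →ₐ[k] X),
        (∀ b ∈ I, F (inc b) = 0) → IA ≤ RingHom.ker F := fun F hF =>
      Ideal.map_le_iff_le_comap.2 fun b hb => by rw [Ideal.mem_comap, RingHom.mem_ker]; exact hF b hb
    refine { toIsCoideal := ⟨fun x hx => ?_, fun x hx => ?_⟩, antipode_mem := fun x hx => ?_ }
    · refine hle (Bialgebra.counitAlgHom k A) (fun b hb => ?_) hx
      show Coalgebra.counit (R := k) (inc b) = 0
      rw [CoalgHomClass.counit_comp_apply inc, ← CoalgHomClass.counit_comp_apply φ, show φ b = 0 from hb, map_zero]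
    · show Algebra.TensorProduct.map π₀ π₀ (Bialgebra.comulAlgHom k A x) = 0
      refine hle ((Algebra.TensorProduct.map π₀ π₀).comp (Bialgebra.comulAlgHom k A)) (fun b hb => ?_) hx
      show Algebra.TensorProduct.map π₀ π₀ (Coalgebra.comul (R := k) (inc b)) = 0
      rw [← CoalgHomClass.map_comp_comul_apply inc]
      have key : ∀ z : B ⊗[k] B, Algebra.TensorProduct.map π₀ π₀ (TensorProduct.map (inc : B →ₗ[k] A) (inc : B →ₗ[k] A) z) =
          Algebra.TensorProduct.map η₀ η₀ (TensorProduct.map (φ : B →ₗ[k] MonoidAlgebra k G) (φ : B →ₗ[k] MonoidAlgebra k G) z) := by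
        intro z
        induction z with
        | zero => simp
        | add p q hp hq => simp only [map_add, hp, hq]
        | tmul p q =>
          simp only [TensorProduct.map_tmul, Algebra.TensorProduct.map_tmul]
          exact congrArg₂ _ (hη₀ p).symm (hη₀ q).symm
      rw [key, CoalgHomClass.map_comp_comul_apply φ, show φ b = 0 from hb, map_zero, map_zero]
    · show HopfAlgebra.antipode k x ∈ IA
      have := hle (π₀.comp (HopfAlgebra.antipodeAlgHom k A)) (fun b hb => by
        show π₀ (HopfAlgebra.antipode k (inc b)) = 0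
        rw [← Groth.L08.HopfImage.map_antipode inc]
        exact hkill _ (by
          show φ _ = 0
          rw [Groth.L08.HopfImage.map_antipode φ, show φ b = 0 from hb, map_zero])) hx
      exact Ideal.Quotient.eq_zero_iff_mem.1 this
  let π : A →ₐc[k] A ⧸ IA := Bialgebra.Quotient.mkBialgHom IA
  obtain ⟨η, hη⟩ := exists_bialgHom_of_comp φ hφ (π.comp inc) fun b hb => hkill b hb
  have hηinj : Function.Injective η := by
    refine (injective_iff_map_eq_zero η).2 fun y hy => ?_
    obtain ⟨b, rfl⟩ := hφ y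
    have h1 : inc b ∈ IA := Ideal.Quotient.eq_zero_iff_mem.1 (((hη b).symm.trans hy : π (inc b) = 0))
    have h2 : b ∈ IA.comap (algebraMap B A) := h1
    rw [Ideal.comap_map_eq_self_of_faithfullyFlat] at h2
    exact h2
  haveI : Algebra.FiniteType k (A ⧸ IA) :=
    Algebra.FiniteType.of_surjective (Ideal.Quotient.mkₐ k IA) Ideal.Quotient.mk_surjective
  -- replace `G` by a small copy
  let G' := Shrink.{u} G
  let e : MonoidAlgebra k G' →ₐc[k] MonoidAlgebra k G :=
    MonoidAlgebra.mapDomainBialgHom k ((Shrink.mulEquiv (α := G)).toMonoidHom)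
  let e' : MonoidAlgebra k G →ₐc[k] MonoidAlgebra k G' :=
    MonoidAlgebra.mapDomainBialgHom k ((Shrink.mulEquiv (α := G)).symm.toMonoidHom)
  have hee : ∀ y, e' (e y) = y := fun y => by
    induction y using MonoidAlgebra.induction_linear with
    | zero => simp
    | add a b ha hb => rw [map_add, map_add, ha, hb]
    | single g c => simp [e, e']
  have hee' : ∀ y, e (e' y) = y := fun y => by
    induction y using MonoidAlgebra.induction_linear with
    | zero => simp
    | add a b ha hb => rw [map_add, map_add, ha, hb]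
    | single g c => simp [e, e']
  let θ : MonoidAlgebra k G' →ₐc[k] A ⧸ IA := η.comp e
  have hθ : Function.Injective θ := hηinj.comp (Function.LeftInverse.injective hee)
  let J' : Ideal (A ⧸ IA) := Ideal.map (θ : MonoidAlgebra k G' →+* A ⧸ IA) (RingHom.ker (Bialgebra.counitAlgHom k _))
  haveI hJ'H : J'.IsHopfIdeal k := Groth.L25.MultType.isHopfIdeal_map_ker θ J' rfl
  haveI : Algebra.FiniteType k ((A ⧸ IA) ⧸ J') :=
    Algebra.FiniteType.of_surjective (Ideal.Quotient.mkₐ k J') Ideal.Quotient.mk_surjective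
  haveI : Algebra.FiniteType k (Frob₁ (k := k) p A) :=
    Algebra.FiniteType.of_surjective (Ideal.Quotient.mkₐ k _) Ideal.Quotient.mk_surjective
  let τ : A →ₐc[k] (A ⧸ IA) ⧸ J' := (Bialgebra.Quotient.mkBialgHom J').comp π
  have hτ : Function.Surjective τ := Ideal.Quotient.mk_surjective.comp Ideal.Quotient.mk_surjective
  obtain ⟨ν, hν⟩ := exists_bialgHom_of_comp (Bialgebra.Quotient.mkBialgHom (frobIdeal (k := k) p A))
    Ideal.Quotient.mk_surjective τ fun x hx => by
      have hx' : x ∈ frobIdeal (k := k) p A := Ideal.Quotient.eq_zero_iff_mem.1 hx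
      rw [← hBJ] at hx'
      refine (Ideal.span_le (I := RingHom.ker (τ : A →ₐ[k] (A ⧸ IA) ⧸ J'))).2 ?_ hx'
      rintro b ⟨hb, hb0⟩
      show Ideal.Quotient.mk J' (π b) = 0
      rw [Ideal.Quotient.eq_zero_iff_mem, show π b = θ (e' (φ ⟨b, hb⟩)) by
        show _ = η (e (e' (φ ⟨b, hb⟩)))
        rw [hee', hη]
        rfl]
      refine Ideal.mem_map_of_mem _ (RingHom.mem_ker.2 ?_)
      show Coalgebra.counit (R := k) (e' (φ ⟨b, hb⟩)) = 0
      rw [CoalgHomClass.counit_comp_apply e', CoalgHomClass.counit_comp_apply φ, ← CoalgHomClass.counit_comp_apply inc]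
      exact hb0
  have hU : HopfRep.IsUnipotent k ((A ⧸ IA) ⧸ J') :=
    (Groth.Agent.S5422.result k (Frob₁ (k := k) p A)).1 _ ν (fun z => by
      obtain ⟨x, hx⟩ := hτ z
      exact ⟨_, (hν x).trans hx⟩) hJU
  have hd : SGA3b.IsDiag k (MonoidAlgebra k G') := ⟨G', inferInstance, ⟨BialgEquiv.refl k _⟩⟩
  obtain ⟨r, hr⟩ := Groth.Agent.S4128.result k (A ⧸ IA) (MonoidAlgebra k G') hd θ hθ J' rfl hU
  refine ⟨(e.comp r).comp π, ?_⟩
  have hr' : Function.Surjective r := fun y => ⟨θ y, congrArg (fun f : MonoidAlgebra k G' →ₐc[k] MonoidAlgebra k G' => f y) hr⟩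
  exact (Function.LeftInverse.surjective hee').comp (hr'.comp Ideal.Quotient.mk_surjective)

end Groth.L01.Unip
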