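import Groth.Agent.L01.Unip.Frob
import Groth.Agent.L01.Unip.Domain
import Groth.Agent.L01.Unip.Descent
import Groth.Agent.L01.Unip.Cocomm
import Groth.Agent.L01.Unip.Closure
import Groth.Agent.L01.MultConj.Good
import Groth.Agent.S5423
import Mathlib.RingTheory.Nakayama
import Mathlib.LinearAlgebra.FreeModule.Basic

/-!
# Groups without subgroups `μ_n` are unipotent
-/

set_option autoImplicit false

universe u

open TensorProduct WithConv
open Groth.L08.TruncatedHopf (frobIdeal isHopfIdeal_frobIdeal frobSub isHopfSubalgebra_frobSub)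

noncomputable section

namespace Groth.L01.Unip

variable {k : Type u} [Field k]

/-- There is no closed subgroup `μ_n`. -/
def NoMu (k : Type u) [Field k] (A : Type u) [CommRing A] [Bialgebra k A] (n : ℕ) : Prop :=
  ¬ ∃ φ : A →ₐc[k] MonoidAlgebra k (Multiplicative (ZMod n)), Function.Surjective φ

theorem NoMu.of_surjective {A B : Type u} [CommRing A] [Bialgebra k A] [CommRing B] [Bialgebra k B] {n : ℕ}
    (h : NoMu k A n) (f : A →ₐc[k] B) (hf : Function.Surjective f) : NoMu k B n :=
  fun ⟨φ, hφ⟩ => h ⟨φ.comp f, hφ.comp hf⟩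

theorem exists_addMonoidHom_zmod (n : ℕ) [Fact n.Prime] (Q : Type u) [AddCommGroup Q] [Module (ZMod n) Q]
    [Nontrivial Q] : ∃ φ : Q →+ ZMod n, Function.Surjective φ := by
  obtain ⟨x, hx⟩ := exists_ne (0 : Q)
  obtain ⟨φ, hφ⟩ : ∃ φ : Module.Dual (ZMod n) Q, φ x ≠ 0 := by
    by_contra! h
    exact hx ((Module.forall_dual_apply_eq_zero_iff (ZMod n) x).1 h)
  refine ⟨φ.toAddMonoidHom, fun c => ⟨(c * (φ x)⁻¹) • x, ?_⟩⟩
  simp [inv_mul_cancel₀ hφ, mul_assoc]

/-- An abelian group of finite type without quotient `ℤ/n` is killed by a number prime to `n`. -/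
theorem exists_exponent {M : Type u} [CommGroup M] [Group.FG M] (n : ℕ) [hn : Fact n.Prime]
    (h : ¬ ∃ f : M →* Multiplicative (ZMod n), Function.Surjective f) :
    ∃ N : ℕ, ¬ n ∣ N ∧ ∀ x : M, x ^ N = 1 := by
  classical
  let V := Additive M
  let R : Submodule ℤ V := LinearMap.range (LinearMap.lsmul ℤ V (n : ℤ))
  have hR : R = ⊤ := by
    by_contra hR
    let Q := V ⧸ R
    haveI : Nontrivial Q := Submodule.Quotient.nontrivial_iff.2 hR
    have hkill : ∀ x : Q, n • x = 0 := by
      intro x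
      obtain ⟨x, rfl⟩ := Submodule.Quotient.mk_surjective R x
      rw [← Submodule.Quotient.mk_smul, Submodule.Quotient.mk_eq_zero]
      exact ⟨x, by simp⟩
    letI : Module (ZMod n) Q := AddCommGroup.zmodModule hkill
    obtain ⟨φ, hφ⟩ := exists_addMonoidHom_zmod n Q
    refine h ⟨AddMonoidHom.toMultiplicativeRight (φ.comp R.mkQ.toAddMonoidHom), fun y => ?_⟩
    obtain ⟨z, hz⟩ := hφ (Multiplicative.toAdd y)
    obtain ⟨x, rfl⟩ := Submodule.Quotient.mk_surjective R z
    exact ⟨Additive.toMul x, congrArg Multiplicative.ofAdd hz⟩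
  haveI : Module.Finite ℤ V := Module.Finite.iff_addGroup_fg.2 (by
    exact GroupFG.iff_add_fg.1 inferInstance)
  obtain ⟨r, hr1, hr2⟩ := Submodule.exists_sub_one_mem_and_smul_eq_zero_of_fg_of_le_smul (Ideal.span {(n : ℤ)}) (⊤ : Submodule ℤ V)
    Module.Finite.fg_top (fun x _ => by
      obtain ⟨y, rfl⟩ := (hR ▸ Submodule.mem_top : x ∈ R)
      exact Submodule.smul_mem_smul (Ideal.subset_span rfl) Submodule.mem_top)
  refine ⟨r.natAbs, fun hdvd => ?_, fun x => ?_⟩
  · have h1 : (n : ℤ) ∣ r - 1 := Ideal.mem_span_singleton.1 hr1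
    have h2 : (n : ℤ) ∣ r := Int.natCast_dvd.2 hdvd
    have h3 : (n : ℤ) ∣ 1 := by simpa using dvd_sub h2 h1
    exact hn.out.one_lt.ne' (Nat.dvd_one.1 (Int.natCast_dvd_natCast.1 (by exact_mod_cast h3)))
  · have h1 : x ^ r = 1 := hr2 (Additive.ofMul x) Submodule.mem_top
    rcases Int.natAbs_eq r with h2 | h2
    · rw [← zpow_natCast, ← h2, h1]
    · rw [h2, zpow_neg, inv_eq_one, zpow_natCast] at h1
      exact h1

variable {A : Type u} [CommRing A] [HopfAlgebra k A] [Algebra.FiniteType k A]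

section AlgClosed

variable [IsAlgClosed k]

theorem exists_exponent_of_noMu {M : Type u} [CommGroup M] [Group.FG M] {n : ℕ} [Fact n.Prime] (h : NoMu k A n)
    (π : A →ₐc[k] MonoidAlgebra k M) (hπ : Function.Surjective π) : ∃ N : ℕ, ¬ n ∣ N ∧ ∀ x : M, x ^ N = 1 := by
  refine exists_exponent n fun ⟨f, hf⟩ => h ⟨(MonoidAlgebra.mapDomainBialgHom k f).comp π, fun y => ?_⟩
  induction y using MonoidAlgebra.induction_linear with
  | zero => exact ⟨0, map_zero _⟩
  | add a b ha hb =>
    obtain ⟨a', rfl⟩ := ha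
    obtain ⟨b', rfl⟩ := hb
    exact ⟨a' + b', map_add _ _ _⟩
  | single g c =>
    obtain ⟨x, rfl⟩ := hf g
    obtain ⟨a, ha⟩ := hπ (MonoidAlgebra.single x c)
    exact ⟨a, by simp [ha]⟩

/-- Without subgroups `μ_n` some power prime to `n` of each point is unipotent; without any, each point. -/
theorem isUnipPt_pow (g : WithConv (A →ₐ[k] k)) :
    (∀ n : ℕ, n.Prime → NoMu k A n → ∃ N : ℕ, ¬ n ∣ N ∧ IsUnipPt (g ^ N)) ∧
      ((∀ n : ℕ, n.Prime → NoMu k A n) → IsUnipPt g) := by
  obtain ⟨I, hI, hco, hg⟩ := exists_comm_closure g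
  haveI := hI
  haveI := hco
  haveI : Algebra.FiniteType k (A ⧸ I) :=
    Algebra.FiniteType.of_surjective (Ideal.Quotient.mkₐ k I) Ideal.Quotient.mk_surjective
  let q : A →ₐc[k] A ⧸ I := Bialgebra.Quotient.mkBialgHom I
  let g' : WithConv (A ⧸ I →ₐ[k] k) := toConv (Ideal.Quotient.liftₐ I g.ofConv hg)
  have hgg : g = preHom q g' := WithConv.ofConv_injective (AlgHom.ext fun a => rfl)
  obtain ⟨M, _, hM, ⟨π, hπ⟩, hN⟩ := exists_diag_part (k := k) (A ⧸ I)
  haveI := hM
  have key : ∀ N : ℕ, (∀ x : M, x ^ N = 1) → IsUnipPt (g ^ N) := by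
    intro N hx
    rw [hgg, ← map_pow]
    exact (hN N hx g').comap q
  refine ⟨fun n hn hno => ?_, fun hall => ?_⟩
  · haveI := Fact.mk hn
    obtain ⟨N, hN1, hN2⟩ := exists_exponent_of_noMu (hno.of_surjective q Ideal.Quotient.mk_surjective) π hπ
    exact ⟨N, hN1, key N hN2⟩
  · have h1 : ∀ x : M, x ^ 1 = 1 := by
      intro x
      rw [pow_one, ← orderOf_eq_one_iff]
      by_contra hne
      obtain ⟨n, hn, hdvd⟩ := Nat.exists_prime_and_dvd hne
      haveI := Fact.mk hn
      obtain ⟨N, hN1, hN2⟩ := exists_exponent_of_noMu ((hall n hn).of_surjective q Ideal.Quotient.mk_surjective) π hπ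
      exact hN1 (hdvd.trans (orderOf_dvd_of_pow_eq_one (hN2 x)))
    simpa using key 1 h1

/-- In an integral group without `μ_p` all points are unipotent. -/
theorem isUnipPt_of_isDomain [IsDomain A] (p : ℕ) [hp : Fact p.Prime] [CharP k p] (h : NoMu k A p)
    (g : WithConv (A →ₐ[k] k)) : IsUnipPt g := by
  haveI : IsNoetherianRing A := Algebra.FiniteType.isNoetherianRing k A
  let K := AlgebraicClosure (FractionRing A)
  haveI : Algebra.FiniteType K (K ⊗[k] A) := inferInstance
  let γ : A →ₐ[k] K := (IsScalarTower.toAlgHom k (FractionRing A) K).comp (IsScalarTower.toAlgHom k A (FractionRing A))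
  have hγ : Function.Injective γ :=
    (algebraMap (FractionRing A) K).injective.comp (IsFractionRing.injective A (FractionRing A))
  have hK : NoMu K (K ⊗[k] A) p := fun ⟨ψ, hψ⟩ => h (exists_surjective_of_baseChange ψ hψ)
  obtain ⟨N, hN, hU⟩ := (isUnipPt_pow (k := K) (A := K ⊗[k] A) (toConv (Groth.L01.MultConj.atPt γ))).1 p hp.out hK
  have hNk : (N : k) ≠ 0 := fun h0 => hN ((CharP.cast_eq_zero_iff k p N).1 h0)
  refine isUnipPt_of_univ hNk (fun a => ?_) g
  obtain ⟨m, hm⟩ := hU ((1 : K) ⊗ₜ[k] a)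
  refine ⟨m, fun n hn => hγ ?_⟩
  let Θ : WithConv (K ⊗[k] A →ₗ[K] K) →+* WithConv (A →ₗ[k] K) :=
    { toFun := fun φ => toConv ((φ.ofConv.restrictScalars k) ∘ₗ
        (Algebra.TensorProduct.includeRight : A →ₐ[k] K ⊗[k] A).toLinearMap)
      map_zero' := rfl
      map_add' := fun _ _ => rfl
      map_one' := WithConv.ofConv_injective (LinearMap.ext fun b => by
        show (1 : WithConv (K ⊗[k] A →ₗ[K] K)).ofConv ((1 : K) ⊗ₜ[k] b) = (1 : WithConv (A →ₗ[k] K)).ofConv b
        simp [Algebra.algebraMap_eq_smul_one])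
      map_mul' := fun φ ψ => WithConv.ofConv_injective (LinearMap.ext fun b => by
        show (φ * ψ).ofConv ((1 : K) ⊗ₜ[k] b) = _
        rw [LinearMap.convMul_apply, LinearMap.convMul_apply, TensorProduct.comul_tmul, CommSemiring.comul_apply]
        induction Coalgebra.comul (R := k) b using TensorProduct.induction_on with
        | zero => simp
        | add p q hp hq => simp only [TensorProduct.tmul_add, map_add, hp, hq]
        | tmul p q => simp) }
  have hlin : Θ (lin K (K ⊗[k] A) (toConv (Groth.L01.MultConj.atPt γ))) = postMap γ (univ k A) :=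
    WithConv.ofConv_injective (LinearMap.ext fun b => by
      show Groth.L01.MultConj.atPt γ ((1 : K) ⊗ₜ[k] b) = γ b
      rw [Groth.L01.MultConj.atPt_tmul, one_mul])
  have h1 : Θ ((lin K (K ⊗[k] A) ((toConv (Groth.L01.MultConj.atPt γ)) ^ N) - 1) ^ n) =
      postMap γ ((univ k A ^ N - 1) ^ n) := by
    simp only [map_pow, map_sub, map_one, hlin]
  have h2 := congrArg (fun z : WithConv (A →ₗ[k] K) => z.ofConv a) h1
  rw [postMap_apply] at h2
  rw [map_zero, ← h2]
  exact hm n hn

/-- Reduced groups: all points unipotent. -/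
theorem isUnipotent_of_points [IsReduced A] (h : ∀ g : WithConv (A →ₐ[k] k), IsUnipPt g) :
    HopfRep.IsUnipotent k A :=
  (Groth.Agent.S5423.result k A).2 fun g _ _ _ _ hV => by haveI := hV; exact (h (toConv g)).isNilpotent_act

/-- Groups in characteristic `p` without `μ_p` that are connected or have no `μ_n` at all. -/
theorem isUnipotent_of_noMu (p : ℕ) [hp : Fact p.Prime] [CharP k p] :
    ∀ (r : ℕ) (A : Type u) [CommRing A] [HopfAlgebra k A] [Algebra.FiniteType k A],
      (∀ x : A, IsNilpotent x → x ^ p ^ r = 0) → NoMu k A p →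
      ((∀ e : A, IsIdempotentElem e → e = 0 ∨ e = 1) ∨ ∀ n : ℕ, n.Prime → NoMu k A n) →
      HopfRep.IsUnipotent k A := by
  intro r
  induction r with
  | zero =>
    intro A _ _ _ hnil hp0 hor
    haveI : IsReduced A := ⟨fun x hx => by simpa using hnil x hx⟩
    refine isUnipotent_of_points fun g => ?_
    rcases hor with hconn | hall
    · haveI : (⊥ : Ideal A).IsPrime := by
        have hP := Groth.L08.KrullHopf.nilradical_isPrime k (A := A) hconn
        rwa [nilradical_eq_zero A] at hP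
      haveI : IsDomain A := IsDomain.of_bot_isPrime _
      exact isUnipPt_of_isDomain p hp0 g
    · exact (isUnipPt_pow g).2 hall
  | succ r ih =>
    intro A _ _ _ hnil hp0 hor
    haveI : Nontrivial A := RingHom.domain_nontrivial (Bialgebra.counitAlgHom k A).toRingHom
    haveI : CharP A p := charP_of_injective_algebraMap (algebraMap k A).injective p
    haveI := isHopfIdeal_frobIdeal (k := k) p (A := A)
    let B := frobSub (k := k) p A
    have hB : SGA3.IsHopfSubalgebra k A B := isHopfSubalgebra_frobSub p A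
    letI := Groth.L25.HopfSub.hopfAlgebra hB
    have hJU : HopfRep.IsUnipotent k (Frob₁ (k := k) p A) := isUnipotent_frob₁_of_noMu p hp0
    have hBJ : Ideal.span {b : A | b ∈ B ∧ Bialgebra.counitAlgHom k A b = 0} = frobIdeal (k := k) p A := by
      refine congrArg Ideal.span (Set.ext fun b => ⟨?_, ?_⟩)
      · rintro ⟨⟨a, rfl⟩, h0⟩
        exact ⟨a, RingHom.mem_ker.2 (eq_zero_of_pow_eq_zero (n := p) (by rw [← map_pow]; exact h0)), rfl⟩
      · rintro ⟨a, ha, rfl⟩
        exact ⟨⟨a, rfl⟩, by rw [map_pow, RingHom.mem_ker.1 ha, zero_pow hp.out.ne_zero]⟩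
    haveI : Algebra.FiniteType k B := by
      obtain ⟨s, hs⟩ := Algebra.FiniteType.out (R := k) (A := A)
      rw [← Subalgebra.fg_iff_finiteType]
      classical
      refine ⟨s.image (fun a => a ^ p), le_antisymm (Algebra.adjoin_le ?_) ?_⟩
      · intro b hb
        rw [Finset.coe_image] at hb
        obtain ⟨a, -, rfl⟩ := hb
        exact ⟨a, rfl⟩
      · rintro _ ⟨a, rfl⟩
        rw [frobenius_def]
        have ha : a ∈ Algebra.adjoin k (s : Set A) := hs ▸ Algebra.mem_top
        induction ha using Algebra.adjoin_induction with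
        | mem x hx => exact Algebra.subset_adjoin (Finset.mem_coe.2 (Finset.mem_image_of_mem _ hx))
        | algebraMap c => rw [← map_pow]; exact Subalgebra.algebraMap_mem _ _
        | add x y _ _ hx hy => rw [add_pow_char]; exact add_mem hx hy
        | mul x y _ _ hx hy => rw [mul_pow]; exact mul_mem hx hy
    have hlift : ∀ n : ℕ, NoMu k A n → NoMu k B n := fun n h ⟨φ, hφ⟩ => h (exists_lift p hB hBJ hJU φ hφ)
    have hBU : HopfRep.IsUnipotent k B := by
      refine ih B (fun x hx => Subtype.ext ?_) (hlift p hp0) ?_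
      · obtain ⟨a, ha⟩ := x.2
        rw [SubmonoidClass.coe_pow, ← ha, frobenius_def, ← pow_mul, ← pow_succ']
        refine hnil a ?_
        obtain ⟨m, hm⟩ := hx
        refine ⟨p * m, ?_⟩
        have := congrArg Subtype.val hm
        rw [SubmonoidClass.coe_pow, ← ha, frobenius_def, ← pow_mul] at this
        exact this
      · refine hor.imp (fun hconn e he => ?_) fun hall n hn => hlift n (hall n hn)
        rcases hconn e (congrArg Subtype.val he) with h | h
        · exact Or.inl (Subtype.ext h)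
        · exact Or.inr (Subtype.ext h)
    let inc := Groth.L25.HopfSub.inclBialg hB
    refine (Groth.Agent.S5422.result k A).2.2 B inc (frobIdeal (k := k) p A) Subtype.val_injective ?_ hBU hJU
    refine hBJ.symm.trans (congrArg Ideal.span (Set.ext fun b => ⟨?_, ?_⟩))
    · rintro ⟨hb, h0⟩
      exact ⟨⟨b, hb⟩, h0, rfl⟩
    · rintro ⟨⟨b, hb⟩, h0, rfl⟩
      exact ⟨hb, h0⟩

theorem exists_nil_bound (p : ℕ) [hp : Fact p.Prime] (k : Type u) [Field k] (A : Type u) [CommRing A] [Algebra k A]
    [Algebra.FiniteType k A] : ∃ r : ℕ, ∀ x : A, IsNilpotent x → x ^ p ^ r = 0 := by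
  haveI : IsNoetherianRing A := Algebra.FiniteType.isNoetherianRing k A
  obtain ⟨m, hm⟩ := IsNoetherianRing.isNilpotent_nilradical A
  refine ⟨m, fun x hx => ?_⟩
  have h1 := Ideal.pow_mem_pow (mem_nilradical.2 hx) m
  rw [hm] at h1
  exact pow_eq_zero_of_le (Nat.lt_pow_self hp.out.one_lt).le h1

end AlgClosed

end Groth.L01.Unip
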