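import Groth.Agent.L15.RankP.Prim
import Groth.Agent.L01.LangNu
import Groth.Agent.L01.Unip.Engel
import Groth.Agent.L08.TruncatedHopf
import Mathlib.FieldTheory.IsAlgClosed.Basic

/-!
# A non-nilpotent tangent vector gives a subgroup `μ_p`
-/

set_option autoImplicit false

universe u v

open TensorProduct WithConv CartDual

noncomputable section

namespace Groth.L01.Unip

/-- In a finite commutative algebra the `p`-iterates of a non-nilpotent element span a nonzero fixed
element. -/
theorem exists_fixed_pow {k : Type u} [Field k] [IsAlgClosed k] (p : ℕ) [hp : Fact p.Prime] [CharP k p]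
    {S : Type v} [CommRing S] [Algebra k S] [Module.Finite k S] (y : S) (hy : ¬ IsNilpotent y) :
    ∃ z ∈ Submodule.span k (Set.range fun n => y ^ p ^ n), z ≠ 0 ∧ z ^ p = z := by
  haveI : Nontrivial S := ⟨⟨y, 0, fun h => hy (h ▸ IsNilpotent.zero)⟩⟩
  haveI : CharP S p := charP_of_injective_algebraMap (algebraMap k S).injective p
  let V : ℕ → Submodule k S := fun N => Submodule.span k (Set.range fun n => y ^ p ^ (N + n))
  have hanti : ∀ N, V (N + 1) ≤ V N := fun N => Submodule.span_mono (by
    rintro _ ⟨n, rfl⟩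
    exact ⟨n + 1, by show y ^ p ^ (N + (n + 1)) = y ^ p ^ (N + 1 + n); congr 2; omega⟩)
  obtain ⟨N, hN⟩ := IsArtinian.monotone_stabilizes (R := k) (M := S)
    ⟨fun N => OrderDual.toDual (V N), monotone_nat_of_le_succ hanti⟩
  have hVN : V N = V (N + 1) := hN (N + 1) (Nat.le_succ N)
  have hmap : ∀ v ∈ V N, v ^ p ∈ V N := by
    intro v hv
    induction hv using Submodule.span_induction with
    | mem x hx =>
      obtain ⟨n, rfl⟩ := hx
      refine Submodule.subset_span ⟨n + 1, ?_⟩
      show y ^ p ^ (N + (n + 1)) = (y ^ p ^ (N + n)) ^ p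
      rw [← pow_mul, ← pow_succ]
      rfl
    | zero => rw [zero_pow hp.out.ne_zero]; exact zero_mem _
    | add a b _ _ ha hb => rw [add_pow_char]; exact add_mem ha hb
    | smul c a _ ha => rw [smul_pow]; exact Submodule.smul_mem _ _ ha
  let φ : V N →+ V N :=
    { toFun := fun v => ⟨(v : S) ^ p, hmap v v.2⟩
      map_zero' := Subtype.ext (zero_pow hp.out.ne_zero)
      map_add' := fun a b => Subtype.ext (add_pow_char (a : S) (b : S) p) }
  have hsurj : Function.Surjective φ := by
    rintro ⟨v, hv⟩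
    suffices h : ∃ u ∈ V N, u ^ p = v by
      obtain ⟨u, hu, hu'⟩ := h
      exact ⟨⟨u, hu⟩, Subtype.ext hu'⟩
    rw [hVN] at hv
    induction hv using Submodule.span_induction with
    | mem x hx =>
      obtain ⟨n, rfl⟩ := hx
      refine ⟨y ^ p ^ (N + n), Submodule.subset_span ⟨n, rfl⟩, ?_⟩
      show _ = y ^ p ^ (N + 1 + n)
      rw [← pow_mul, ← pow_succ, show N + n + 1 = N + 1 + n by omega]
    | zero => exact ⟨0, zero_mem _, zero_pow hp.out.ne_zero⟩
    | add a b _ _ ha hb =>
      obtain ⟨u, hu, rfl⟩ := ha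
      obtain ⟨w, hw, rfl⟩ := hb
      exact ⟨u + w, add_mem hu hw, add_pow_char u w p⟩
    | smul c a _ ha =>
      obtain ⟨u, hu, rfl⟩ := ha
      obtain ⟨d, rfl⟩ := IsAlgClosed.exists_pow_nat_eq c hp.out.pos
      exact ⟨d • u, Submodule.smul_mem _ _ hu, smul_pow _ _ _⟩
  obtain ⟨⟨b, hb⟩, -⟩ := Groth.L01.LangNu.exists_fixed_basis k p 1 le_rfl φ (fun a v => Subtype.ext (by
    show (a • (v : S)) ^ p = a ^ p ^ 1 • (v : S) ^ p
    rw [pow_one, smul_pow])) hsurj
  haveI : Nontrivial (V N) := ⟨⟨⟨y ^ p ^ N, Submodule.subset_span ⟨0, rfl⟩⟩, 0, fun h => hy ⟨p ^ N, congrArg Subtype.val h⟩⟩⟩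
  have hpos : 0 < Module.finrank k (V N) := Module.finrank_pos
  refine ⟨b ⟨0, hpos⟩, ?_, fun h => b.ne_zero _ (Subtype.ext h), congrArg Subtype.val (hb _)⟩
  exact Submodule.span_mono (by rintro _ ⟨n, rfl⟩; exact ⟨N + n, rfl⟩) (b ⟨0, hpos⟩).2

variable {k : Type u} [Field k] {A : Type v} [CommRing A] [HopfAlgebra k A]

/-- A non-nilpotent tangent vector of a finite group gives a closed `μ_p`. -/
theorem exists_mu_of_tangent [IsAlgClosed k] [Module.Finite k A] (p : ℕ) [hp : Fact p.Prime] [CharP k p]
    {w : A →ₗ[k] k} (hw : Groth.L08.AugGraded.IsTangent k A w) (hnil : ¬ IsNilpotent (toConv w)) :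
    ∃ f : A →ₐc[k] MonoidAlgebra k (Multiplicative (ZMod p)), Function.Surjective f := by
  let x : D k A := toConv w
  let ev : Polynomial k →ₐ[k] D k A := Polynomial.aeval x
  let f : (Polynomial k ⧸ RingHom.ker ev) →ₐ[k] D k A := Ideal.kerLiftAlg ev
  have hf : Function.Injective f := Ideal.kerLiftAlg_injective ev
  haveI : Module.Finite k (Polynomial k ⧸ RingHom.ker ev) := Module.Finite.of_injective f.toLinearMap hf
  let y : Polynomial k ⧸ RingHom.ker ev := Ideal.Quotient.mk _ Polynomial.X
  have hfy : f y = x := Polynomial.aeval_X x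
  obtain ⟨z, hz, hz0, hzp⟩ := exists_fixed_pow (k := k) p y fun h => hnil (by rw [← show f y = toConv w from hfy]; exact h.map f)
  have hprim : Groth.L15.RankP.IsPrim (f z) := by
    have hmem : f z ∈ Submodule.span k (Set.range fun n => x ^ p ^ n) := by
      have := Submodule.apply_mem_span_image_of_mem_span f.toLinearMap hz
      rwa [← Set.range_comp, show (f.toLinearMap ∘ fun n => y ^ p ^ n) = fun n => x ^ p ^ n from
        funext fun n => by simp [hfy]] at this
    rw [Groth.L15.RankP.isPrim_iff]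
    generalize f z = fz at hmem ⊢
    induction hmem using Submodule.span_induction with
    | mem t ht =>
      obtain ⟨n, rfl⟩ := ht
      intro a b
      have := isTangent_pow p hw n a b
      show (x ^ p ^ n).ofConv (a * b) = (x ^ p ^ n).ofConv a * _ + _ * (x ^ p ^ n).ofConv b
      rw [this]
      simp only [Bialgebra.counitAlgHom_apply]
      ring
    | zero => intro a b; simp [coe_apply]
    | add s t _ _ hs ht =>
      intro a b
      show s (a * b) + t (a * b) = (s a + t a) * _ + _ * (s b + t b)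
      rw [hs, ht]; ring
    | smul c t _ ht =>
      intro a b
      show c * t (a * b) = c * t a * _ + _ * (c * t b)
      rw [ht]; ring
  exact Groth.L15.RankP.exists_surjective_mu p hprim (by rw [← map_pow, hzp]) fun h => hz0 (hf (h.trans (map_zero f).symm))

end Groth.L01.Unip
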