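import Groth.Agent.L25.LargestMult.Split
import Groth.Agent.L01.MultByUnip.Main
import Groth.Agent.L25.UnipExt
import Groth.Agent.S7967
import Groth.Agent.S7951
import Groth.Agent.S16065
import Groth.Agent.L08.Diag

/-!
# Trigonalizable after a separable extension
-/

set_option autoImplicit false

universe u

open TensorProduct

noncomputable section

namespace Groth.L01.SepTrig

open Groth.L08 (fAct)

variable {k : Type u} [Field k]

/-- A Hopf subalgebra of a finitely generated Hopf algebra is finitely generated. -/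
theorem finiteType_of_injective {A B : Type u} [CommRing A] [HopfAlgebra k A] [Algebra.FiniteType k A]
    [CommRing B] [HopfAlgebra k B] (ψ : B →ₐc[k] A) (hψ : Function.Injective ψ) : Algebra.FiniteType k B := by
  classical
  haveI : IsNoetherianRing A := Algebra.FiniteType.isNoetherianRing k A
  let J : Ideal A := Ideal.map (ψ : B →+* A) (RingHom.ker (Bialgebra.counitAlgHom k B))
  obtain ⟨t, ht, hspan⟩ : ∃ t : Finset A, (t : Set A) ⊆ (ψ : B →+* A) '' (RingHom.ker (Bialgebra.counitAlgHom k B) : Set B) ∧
      Ideal.span (t : Set A) = J := by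
    obtain ⟨t, ht, h⟩ := Submodule.fg_span_iff_fg_span_finset_subset
      ((ψ : B →+* A) '' (RingHom.ker (Bialgebra.counitAlgHom k B) : Set B)) |>.1 (IsNoetherian.noetherian (Ideal.span ((ψ : B →+* A) '' (RingHom.ker (Bialgebra.counitAlgHom k B) : Set B))))
    exact ⟨t, ht, h.symm⟩
  choose pre hpre hpre' using fun a : t => ht a.2
  obtain ⟨C, hC, hCfg, hCH⟩ := Groth.L25.HopfSub.exists_fg k B (t.attach.image pre)
  letI := Groth.L25.HopfSub.hopfAlgebra hCH
  let φ : C →ₐc[k] A := ψ.comp (Groth.L25.HopfSub.inclBialg hCH)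
  have hJ : J = Ideal.map (φ : C →+* A) (RingHom.ker (Bialgebra.counitAlgHom k C)) := by
    refine le_antisymm ?_ ?_
    · rw [← hspan, Ideal.span_le]
      intro a ha
      have hmem : pre ⟨a, ha⟩ ∈ C := hC (Finset.mem_image.2 ⟨⟨a, ha⟩, Finset.mem_attach _ _, rfl⟩)
      rw [show a = φ ⟨_, hmem⟩ from (hpre' ⟨a, ha⟩).symm]
      exact Ideal.mem_map_of_mem _ (hpre ⟨a, ha⟩)
    · rw [Ideal.map_le_iff_le_comap]
      exact fun c hc => Ideal.mem_map_of_mem _ (show (c : B) ∈ RingHom.ker (Bialgebra.counitAlgHom k B) from hc)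
  have hfix : ∀ b : B, TensorProduct.map LinearMap.id (Ideal.Quotient.mkₐ k J).toLinearMap
      (Coalgebra.comul (R := k) (ψ b)) = ψ b ⊗ₜ[k] (1 : A ⧸ J) := by
    intro b
    rw [← CoalgHomClass.map_comp_comul_apply ψ b]
    have hε : ∀ x : B, Ideal.Quotient.mk J (ψ x) = algebraMap k (A ⧸ J) (Coalgebra.counit (R := k) x) := by
      intro x
      rw [IsScalarTower.algebraMap_apply k A (A ⧸ J), Ideal.Quotient.algebraMap_eq, Ideal.Quotient.eq]
      have h := Ideal.mem_map_of_mem (ψ : B →+* A) (show x - algebraMap k B (Coalgebra.counit (R := k) x) ∈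
        RingHom.ker (Bialgebra.counitAlgHom k B) by simp [RingHom.mem_ker])
      have e : (ψ : B →+* A) (x - algebraMap k B (Coalgebra.counit (R := k) x)) =
          ψ x - algebraMap k A (Coalgebra.counit (R := k) x) := by
        show (ψ : B →ₐ[k] A) _ = _
        rw [map_sub, AlgHom.commutes]; rfl
      exact e ▸ h
    have h2 : ∀ w : B ⊗[k] B, TensorProduct.map LinearMap.id (Ideal.Quotient.mkₐ k J).toLinearMap
        (TensorProduct.map (ψ : B →ₗ[k] A) (ψ : B →ₗ[k] A) w) =
        ψ (TensorProduct.rid k B ((Coalgebra.counit (R := k) (A := B)).lTensor B w)) ⊗ₜ[k] (1 : A ⧸ J) := by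
      intro w
      induction w with
      | zero => simp
      | add p q hp hq => simp only [map_add, add_tmul, hp, hq]
      | tmul p q =>
        simp only [TensorProduct.map_tmul, LinearMap.lTensor_tmul, TensorProduct.rid_tmul, map_smul, LinearMap.id_apply]
        show ψ p ⊗ₜ[k] Ideal.Quotient.mk J (ψ q) = _
        rw [hε, Algebra.algebraMap_eq_smul_one, ← TensorProduct.smul_tmul, ← map_smul]
    rw [h2, Coalgebra.lTensor_counit_comul, TensorProduct.rid_tmul, one_smul]
  have htop : C = ⊤ := eq_top_iff.2 fun b _ => by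
    obtain ⟨c, hc⟩ := Groth.L25.UnipExt.mem_range_of_fixed φ hJ (hfix b)
    exact (hψ hc : (c : B) = b) ▸ c.2
  exact ⟨htop ▸ hCfg⟩

/-- Maps kill an ideal descend to the quotient Hopf algebra. -/
theorem exists_quotLift {A C : Type u} [CommRing A] [HopfAlgebra k A] [CommRing C] [HopfAlgebra k C] (I : Ideal A)
    [I.IsHopfIdeal k] (q : A →ₐc[k] C) (hq : ∀ x ∈ I, q x = 0) :
    ∃ Φ : (A ⧸ I) →ₐc[k] C, ∀ a, Φ (Ideal.Quotient.mk I a) = q a := by
  let φ : (A ⧸ I) →ₐ[k] C := Ideal.Quotient.liftₐ I (q : A →ₐ[k] C) hq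
  have hφ : φ.comp (Ideal.Quotient.mkₐ k I) = (q : A →ₐ[k] C) := AlgHom.ext fun _ => rfl
  refine ⟨BialgHom.ofAlgHom φ (Ideal.Quotient.algHom_ext _ (AlgHom.ext fun a => ?_))
    (Ideal.Quotient.algHom_ext _ (AlgHom.ext fun a => ?_)), fun _ => rfl⟩
  · exact CoalgHomClass.counit_comp_apply q a
  · show Algebra.TensorProduct.map φ φ (Algebra.TensorProduct.map (Ideal.Quotient.mkₐ k I) (Ideal.Quotient.mkₐ k I)
      (Coalgebra.comul (R := k) a)) = Coalgebra.comul (R := k) (q a)
    rw [← AlgHom.comp_apply (Algebra.TensorProduct.map φ φ), ← Algebra.TensorProduct.map_comp, hφ]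
    exact CoalgHomClass.map_comp_comul_apply q a

theorem groupLike_tower {K L : Type u} [Field K] [CommRing L] [Algebra k K] [Algebra k L] [Algebra K L]
    [IsScalarTower k K L] {A : Type u} [CommRing A] [Bialgebra k A] {g : K ⊗[k] A} (hg : IsGroupLikeElem K g) :
    IsGroupLikeElem L (Groth.L25.MultType.cancelBialg k K L A ((1 : L) ⊗ₜ[K] g)) :=
  (Groth.Agent.S16065.gl_one_tmul hg).map _

theorem isDiagonalizable_tower {K L : Type u} [Field K] [Field L] [Algebra k K] [Algebra k L] [Algebra K L]
    [IsScalarTower k K L] {A : Type u} [CommRing A] [Bialgebra k A] (h : HopfRep.IsDiagonalizable K (K ⊗[k] A)) :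
    HopfRep.IsDiagonalizable L (L ⊗[k] A) := by
  let c : L ⊗[K] (K ⊗[k] A) →ₐc[L] L ⊗[k] A := Groth.L25.MultType.cancelBialg k K L A
  refine eq_top_iff.2 fun z _ => ?_
  obtain ⟨w, rfl⟩ := (show Function.Surjective c from (Groth.L25.MultType.cancelBialg k K L A).surjective) z
  suffices H : ∀ w, c w ∈ Submodule.span L {a : L ⊗[k] A | IsGroupLikeElem L a} from H w
  intro w
  induction w with
  | zero => rw [map_zero]; exact zero_mem _
  | add p q hp hq => rw [map_add]; exact add_mem hp hq
  | tmul l x =>
    have hx : x ∈ Submodule.span K {g : K ⊗[k] A | IsGroupLikeElem K g} := h ▸ Submodule.mem_top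
    induction hx using Submodule.span_induction generalizing l with
    | mem g hg =>
      rw [show l ⊗ₜ[K] g = l • ((1 : L) ⊗ₜ[K] g) by rw [TensorProduct.smul_tmul', smul_eq_mul, mul_one], map_smul]
      exact Submodule.smul_mem _ _ (Submodule.subset_span (groupLike_tower hg))
    | zero => rw [TensorProduct.tmul_zero, map_zero]; exact zero_mem _
    | add a b _ _ ha hb => rw [TensorProduct.tmul_add, map_add]; exact add_mem (ha l) (hb l)
    | smul r a _ ha => rw [← TensorProduct.smul_tmul]; exact ha _

theorem isDiag_of_isDiagonalizable {A : Type u} [CommRing A] [HopfAlgebra k A] (h : HopfRep.IsDiagonalizable k A) :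
    SGA3b.IsDiag k A := by
  let e : MonoidAlgebra k (GroupLike k A) →ₐc[k] A := MonoidAlgebra.liftGroupLikeBialgHom
  have hes : ∀ (g : GroupLike k A) (c : k), e (MonoidAlgebra.single g c) = c • g.val := fun g c => by simp [e]
  have he : Function.Bijective e := by
    constructor
    · intro x y h'
      have he' : ∀ x, e x = Finsupp.linearCombination k (GroupLike.val (R := k) (A := A)) x.coeff := by
        intro x
        induction x using MonoidAlgebra.induction_linear with
        | zero => simp
        | add p q hp hq => rw [map_add, hp, hq, MonoidAlgebra.coeff_add, map_add]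
        | single n r => rw [MonoidAlgebra.coeff_single, Finsupp.linearCombination_single, hes]
      rw [he', he'] at h'
      exact MonoidAlgebra.ext (linearIndep_groupLikeVal h')
    · intro b
      have hb : b ∈ Submodule.span k {g : A | IsGroupLikeElem k g} := h ▸ Submodule.mem_top
      induction hb using Submodule.span_induction with
      | zero => exact ⟨0, map_zero _⟩
      | mem g hg => exact ⟨MonoidAlgebra.single ⟨g, hg⟩ 1, by rw [hes, one_smul]⟩
      | smul c x _ hx => obtain ⟨y, rfl⟩ := hx; exact ⟨c • y, map_smul e c y⟩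
      | add x y _ _ hx hy =>
        obtain ⟨a, rfl⟩ := hx
        obtain ⟨b, rfl⟩ := hy
        exact ⟨a + b, map_add _ _ _⟩
  exact ⟨_, inferInstance, ⟨(BialgEquiv.ofBijective e he).symm⟩⟩

variable {A : Type u} [CommRing A] [HopfAlgebra k A] [Algebra.FiniteType k A]

/-- Multiplicative type quotient with unipotent kernel gives trigonalizability after a finite separable extension. -/
theorem exists_trig {B : Type u} [CommRing B] [HopfAlgebra k B] (ψ : B →ₐc[k] A) (J : Ideal A) [J.IsHopfIdeal k]
    (hψ : Function.Injective ψ)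
    (hB : HopfRep.IsDiagonalizable (AlgebraicClosure k) (AlgebraicClosure k ⊗[k] B))
    (hJ : J = Ideal.map (ψ : B →+* A) (RingHom.ker (Bialgebra.counitAlgHom k B)))
    (hU : HopfRep.IsUnipotent k (A ⧸ J)) :
    ∃ (k' : Type u) (_ : Field k') (_ : Algebra k k'),
      FiniteDimensional k k' ∧ Algebra.IsSeparable k k' ∧ HopfRep.IsTrigonalizable k' (k' ⊗[k] A) := by
  haveI : Algebra.FiniteType k B := finiteType_of_injective ψ hψ
  have hconst : SGA3b.IsMultTypeConst k B :=
    ⟨AlgebraicClosure k, inferInstance, inferInstance, inferInstance, isDiag_of_isDiagonalizable hB⟩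
  obtain ⟨T, _, _, _, q, hq, -, M, hM, -, ⟨e⟩⟩ := Groth.L25.Char.exists_etale_split_of_const hconst (⊥ : Ideal k)
  haveI : Nontrivial T := ⟨0, 1, fun h => hq.ne_top ((Ideal.eq_top_iff_one _).2 (h ▸ q.zero_mem))⟩
  haveI : Module.Finite k T := Algebra.FormallyUnramified.finite_of_free k T
  obtain ⟨P, hP⟩ := Ideal.exists_maximal T
  letI := Ideal.Quotient.field P
  let k' := T ⧸ P
  haveI : Algebra.FormallyUnramified k k' := inferInstance
  haveI : Algebra.EssFiniteType k k' := inferInstance
  haveI : Algebra.IsSeparable k k' := Algebra.FormallyUnramified.isSeparable k k'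
  refine ⟨k', inferInstance, inferInstance, inferInstance, inferInstance, ?_⟩
  have hd : SGA3b.IsDiag k' (k' ⊗[k] B) := Groth.L25.MultType.isDiag_of_tower (R' := T) ⟨M, hM, ⟨e⟩⟩
  let ψ' : k' ⊗[k] B →ₐc[k'] k' ⊗[k] A := Bialgebra.TensorProduct.map (BialgHom.id k' k') ψ
  have hψ' : Function.Injective ψ' := by
    have h := Module.Flat.lTensor_preserves_injective_linearMap (M := k') (ψ : B →ₗ[k] A) hψ
    intro x y hxy
    refine h ?_
    have e1 : ∀ z, ψ' z = (ψ : B →ₗ[k] A).lTensor k' z := by
      intro z
      induction z with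
      | zero => simp
      | add p q hp hq => simp only [map_add, hp, hq]
      | tmul p q => simp [ψ']
    rw [← e1, ← e1, hxy]
  let J' : Ideal (k' ⊗[k] A) := Ideal.map (ψ' : k' ⊗[k] B →+* k' ⊗[k] A) (RingHom.ker (Bialgebra.counitAlgHom k' (k' ⊗[k] B)))
  haveI : J'.IsHopfIdeal k' := Groth.L25.MultType.isHopfIdeal_map_ker ψ' J' rfl
  refine (Groth.Agent.S7967.result k' (k' ⊗[k] A)).2 ⟨k' ⊗[k] B, inferInstance, inferInstance, ψ', J', inferInstance,
    hψ', Groth.Agent.S7979.isDiagonalizable_of_isDiag hd, rfl, ?_⟩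
  let qJ : A →ₐc[k] A ⧸ J := Bialgebra.Quotient.mkBialgHom J
  let Q : k' ⊗[k] A →ₐc[k'] k' ⊗[k] (A ⧸ J) := Bialgebra.TensorProduct.map (BialgHom.id k' k') qJ
  have hQ : ∀ z, Q z = (Ideal.Quotient.mkₐ k J).toLinearMap.lTensor k' z := by
    intro z
    induction z with
    | zero => simp
    | add p q hp hq => simp only [map_add, hp, hq]
    | tmul p q => simp [Q, qJ]
  have hker : ∀ z, Q z = 0 → z ∈ J' := by
    intro z hz
    rw [hQ] at hz
    have hex : Function.Exact (J.restrictScalars k).subtype (Ideal.Quotient.mkₐ k J).toLinearMap := by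
      intro a
      refine Ideal.Quotient.eq_zero_iff_mem.trans ⟨fun h => ⟨⟨a, h⟩, rfl⟩, ?_⟩
      rintro ⟨b, rfl⟩; exact b.2
    obtain ⟨w, rfl⟩ := (lTensor_exact k' hex Ideal.Quotient.mk_surjective z).1 hz
    induction w with
    | zero => simp
    | add p q hp hq => rw [map_add]; exact add_mem (hp (by
        rw [← LinearMap.lTensor_comp_apply, hex.linearMap_comp_eq_zero, LinearMap.lTensor_zero, LinearMap.zero_apply])) (hq (by
        rw [← LinearMap.lTensor_comp_apply, hex.linearMap_comp_eq_zero, LinearMap.lTensor_zero, LinearMap.zero_apply]))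
    | tmul c a =>
      show c ⊗ₜ[k] (a : A) ∈ J'
      have hle : J ≤ J'.comap (Algebra.TensorProduct.includeRight : A →ₐ[k] k' ⊗[k] A) := by
        rw [hJ, Ideal.map_le_iff_le_comap]
        intro b hb
        show (1 : k') ⊗ₜ[k] ψ b ∈ J'
        have hb' : (1 : k') ⊗ₜ[k] b ∈ RingHom.ker (Bialgebra.counitAlgHom k' (k' ⊗[k] B)) := by
          rw [RingHom.mem_ker] at hb ⊢
          have hb0 : Coalgebra.counit (R := k) b = 0 := hb
          simp [hb0]
        have := Ideal.mem_map_of_mem (ψ' : k' ⊗[k] B →+* k' ⊗[k] A) hb'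
        have e' : (ψ' : k' ⊗[k] B →+* k' ⊗[k] A) ((1 : k') ⊗ₜ[k] b) = (1 : k') ⊗ₜ[k] ψ b := by
          simp [ψ']
        exact e' ▸ this
      have h1 := J'.mul_mem_left (c ⊗ₜ[k] (1 : A)) (hle a.2)
      rwa [Algebra.TensorProduct.includeRight_apply, Algebra.TensorProduct.tmul_mul_tmul, mul_one, one_mul] at h1
  obtain ⟨Φ, hΦ⟩ := exists_quotLift J' Q fun z hz => by
    have : J' ≤ RingHom.ker (Q : k' ⊗[k] A →+* k' ⊗[k] (A ⧸ J)) := by
      rw [Ideal.map_le_iff_le_comap]
      intro b hb
      rw [RingHom.mem_ker] at hb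
      show Q (ψ' b) = 0
      have e1 : ∀ b, Q (ψ' b) = algebraMap k' (k' ⊗[k] (A ⧸ J)) (Coalgebra.counit (R := k') b) := by
        intro b
        induction b with
        | zero => simp
        | add p q hp hq => simp only [map_add, hp, hq]
        | tmul c b =>
          have hε : qJ (ψ b) = algebraMap k (A ⧸ J) (Coalgebra.counit (R := k) b) := by
            show Ideal.Quotient.mk J (ψ b) = Ideal.Quotient.mk J (algebraMap k A _)
            rw [Ideal.Quotient.eq, hJ]
            have h := Ideal.mem_map_of_mem (ψ : B →+* A) (show b - algebraMap k B (Coalgebra.counit (R := k) b) ∈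
              RingHom.ker (Bialgebra.counitAlgHom k B) by simp [RingHom.mem_ker])
            have e : (ψ : B →+* A) (b - algebraMap k B (Coalgebra.counit (R := k) b)) =
                ψ b - algebraMap k A (Coalgebra.counit (R := k) b) := by
              show (ψ : B →ₐ[k] A) _ = _
              rw [map_sub, AlgHom.commutes]; rfl
            exact e ▸ h
          simp [ψ', Q, hε, Algebra.algebraMap_eq_smul_one, TensorProduct.smul_tmul', Algebra.TensorProduct.one_def]
      rw [e1]
      have hb0 : Coalgebra.counit (R := k') b = 0 := hb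
      rw [hb0, map_zero]
    exact this hz
  refine Groth.L25.UnipExt.isUnipotent_of_injective Φ (fun x y h => ?_)
    ((Groth.Agent.S7951.result k k' (A ⧸ J)).1 hU)
  obtain ⟨x, rfl⟩ := Ideal.Quotient.mk_surjective x
  obtain ⟨y, rfl⟩ := Ideal.Quotient.mk_surjective y
  rw [hΦ, hΦ] at h
  exact Ideal.Quotient.eq.2 (hker _ (by rw [map_sub, h, sub_self]))

/-- Trigonalizable after a separable extension gives a multiplicative type quotient with unipotent kernel. -/
theorem exists_quotient (k' : Type u) [Field k'] [Algebra k k'] [FiniteDimensional k k'] [Algebra.IsSeparable k k']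
    (h : HopfRep.IsTrigonalizable k' (k' ⊗[k] A)) :
    ∃ (B : Type u) (_ : CommRing B) (_ : HopfAlgebra k B) (ψ : B →ₐc[k] A) (J : Ideal A) (_ : J.IsHopfIdeal k),
        Function.Injective ψ ∧ HopfRep.IsDiagonalizable (AlgebraicClosure k) (AlgebraicClosure k ⊗[k] B) ∧
          J = Ideal.map (ψ : B →+* A) (RingHom.ker (Bialgebra.counitAlgHom k B)) ∧
          HopfRep.IsUnipotent k (A ⧸ J) := by
  let K := SeparableClosure k
  open Groth.L25.LargestMult in
  let C : Subalgebra k A := (W₀ (S A K)).toSubalgebra
    (mem_W₀.2 (Submodule.subset_span (by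
      rw [Set.mem_setOf_eq, ← Algebra.TensorProduct.one_def]
      exact IsGroupLikeElem.one)))
    fun a b ha hb => mem_W₀.2 (by
      rw [← one_mul (1 : K), ← Algebra.TensorProduct.tmul_mul_tmul]
      exact mul_mem_S (mem_W₀.1 ha) (mem_W₀.1 hb))
  open Groth.L25.LargestMult in
  have hCmem : ∀ a, a ∈ C ↔ (1 : K) ⊗ₜ[k] a ∈ S A K := fun a => Iff.rfl
  open Groth.L25.LargestMult in
  have hSle : S A K ≤ (Subalgebra.toSubmodule C).baseChange K := by
    refine le_baseChange_W₀ _ (fun x hx => ?_) fun σ w hw => ?_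
    · exact (InfiniteGalois.mem_range_algebraMap_iff_fixed x).2 hx
    · have e : LinearMap.rTensor A σ.toLinearMap w = conjH σ w := rfl
      rw [e]
      induction hw using Submodule.span_induction with
      | zero => simp
      | add a b _ _ ha hb => rw [map_add]; exact add_mem (ha rfl) (hb rfl)
      | smul r a _ ha => rw [conjH_smul]; exact Submodule.smul_mem _ _ (ha rfl)
      | mem g hg => exact Submodule.subset_span (conjH_groupLike σ hg)
  open Groth.L25.LargestMult in
  have hsub : HopfRep.IsSubcomod (k := k) (A := A) (Subalgebra.toSubmodule C) :=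
    Groth.L08.isSubcomod_iff.2 fun φ a ha => (hCmem _).2 (by
      rw [← fAct_ΨK]
      have hS : ∀ x ∈ S (k := k) A K, fAct (K ⊗[k] A) (ΨK K φ) x ∈ S A K := by
        intro x hx
        induction hx using Submodule.span_induction with
        | zero => simp
        | add a b _ _ ha hb => rw [map_add]; exact add_mem ha hb
        | smul r a _ ha => rw [map_smul]; exact Submodule.smul_mem _ r ha
        | mem g hg =>
          change TensorProduct.rid _ _ ((ΨK K φ).lTensor _ (Coalgebra.comul (R := K) g)) ∈ _
          rw [hg.comul_eq_tmul_self, LinearMap.lTensor_tmul, TensorProduct.rid_tmul]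
          exact Submodule.smul_mem _ _ (Submodule.subset_span hg)
      exact hS _ ((hCmem a).1 ha))
  open Groth.L25.LargestMult in
  have hanti : ∀ a ∈ C, HopfAlgebraStruct.antipode k a ∈ C := by
    intro a ha
    have key : ∀ x ∈ S (k := k) A K, HopfAlgebraStruct.antipode K x ∈ S A K := by
      intro x hx
      induction hx using Submodule.span_induction with
      | zero => simp
      | add a b _ _ ha hb => rw [map_add]; exact add_mem ha hb
      | smul r a _ ha => rw [map_smul]; exact Submodule.smul_mem _ r ha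
      | mem g hg => exact Submodule.subset_span hg.antipode
    refine (hCmem _).2 ?_
    have h := key _ ((hCmem a).1 ha)
    rwa [TensorProduct.antipode_def, AlgebraTensorModule.map_tmul, HopfAlgebra.antipode_one] at h
  have hC : SGA3.IsHopfSubalgebra k A C := by
    refine ⟨fun a ha => ?_, hanti⟩
    have hl := hsub a ha
    have hr : Coalgebra.comul (R := k) a ∈ LinearMap.range (C.val.toLinearMap.lTensor A) := by
      let S' : A →ₗ[k] A := HopfAlgebraStruct.antipode k
      obtain ⟨w, hw'⟩ := hsub _ (hanti a ha)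
      have hw : (Subalgebra.toSubmodule C).subtype.rTensor A w = Coalgebra.comul (R := k) (S' a) := hw'
      have e1 := congrArg (fun z => TensorProduct.map S' S' (TensorProduct.comm k A A z)) hw
      have e2 : TensorProduct.map S' S' (TensorProduct.comm k A A (Coalgebra.comul (R := k) (S' a))) =
          Coalgebra.comul (R := k) a := by
        rw [Groth.L08.comul_antipode]
        generalize Coalgebra.comul (R := k) a = z
        induction z with
        | zero => simp
        | add p q hp hq => simp only [map_add, hp, hq]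
        | tmul p q => simp [S', Groth.L08.antipode_antipode_apply]
      rw [e2] at e1
      rw [← e1]
      clear e1 e2 hw hw'
      induction w with
      | zero => simp
      | add p q hp hq => simp only [map_add]; exact add_mem hp hq
      | tmul p q => exact ⟨S' q ⊗ₜ ⟨S' p, hanti _ p.2⟩, rfl⟩
    obtain ⟨π, hπ⟩ := C.val.toLinearMap.exists_leftInverse_of_injective (LinearMap.ker_eq_bot.2 Subtype.val_injective)
    refine ⟨TensorProduct.map π π (Coalgebra.comul (R := k) a), ?_⟩
    have hp : ∀ c : C, π (c : A) = c := fun c => LinearMap.congr_fun hπ c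
    obtain ⟨u, hu⟩ : ∃ u, (Subalgebra.toSubmodule C).subtype.rTensor A u = Coalgebra.comul (R := k) a := hl
    obtain ⟨v, hv⟩ := hr
    have h1 : TensorProduct.map (C.val.toLinearMap ∘ₗ π) LinearMap.id (Coalgebra.comul (R := k) a) =
        Coalgebra.comul (R := k) a := by
      rw [← hu]
      clear hu
      induction u with
      | zero => simp
      | add p q hp hq => simp only [map_add, hp, hq]
      | tmul p q =>
        show (π (p : A) : A) ⊗ₜ[k] q = (p : A) ⊗ₜ[k] q
        rw [hp ⟨p.1, p.2⟩]
    have h2 : TensorProduct.map LinearMap.id (C.val.toLinearMap ∘ₗ π) (Coalgebra.comul (R := k) a) =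
        Coalgebra.comul (R := k) a := by
      rw [← hv]
      clear hv
      induction v with
      | zero => simp
      | add p q hp hq => simp only [map_add, hp, hq]
      | tmul p q =>
        show p ⊗ₜ[k] (π (q : A) : A) = p ⊗ₜ[k] (q : A)
        rw [hp q]
    rw [← LinearMap.comp_apply, ← TensorProduct.map_comp,
      show TensorProduct.map (C.val.toLinearMap ∘ₗ π) (C.val.toLinearMap ∘ₗ π) =
        TensorProduct.map (C.val.toLinearMap ∘ₗ π) LinearMap.id ∘ₗ TensorProduct.map LinearMap.id (C.val.toLinearMap ∘ₗ π) by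
          rw [← TensorProduct.map_comp]; rfl, LinearMap.comp_apply, h2, h1]
  letI := Groth.L25.HopfSub.hopfAlgebra hC
  let ψ : C →ₐc[k] A := Groth.L25.HopfSub.inclBialg hC
  let J : Ideal A := Ideal.map (ψ : C →+* A) (RingHom.ker (Bialgebra.counitAlgHom k C))
  haveI : J.IsHopfIdeal k := Groth.L25.MultType.isHopfIdeal_map_ker ψ J rfl
  refine ⟨C, inferInstance, inferInstance, ψ, J, inferInstance, Subtype.val_injective, ?_, rfl, ?_⟩
  · -- the quotient is of multiplicative type
    refine isDiagonalizable_tower (K := K) ?_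
    let ψK : K ⊗[k] C →ₐc[K] K ⊗[k] A := Bialgebra.TensorProduct.map (BialgHom.id K K) ψ
    have e1 : ∀ z, ψK z = (C.val.toLinearMap).lTensor K z := by
      intro z
      induction z with
      | zero => simp
      | add p q hp hq => simp only [map_add, hp, hq]
      | tmul p q => simp [ψK, ψ]; rfl
    have hinj : Function.Injective ψK := fun x y hxy =>
      Module.Flat.lTensor_preserves_injective_linearMap (M := K) C.val.toLinearMap Subtype.val_injective
        (by rw [← e1, ← e1, hxy])
    have hgl : ∀ g, IsGroupLikeElem K g → ∃ z, IsGroupLikeElem K z ∧ ψK z = g := by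
      intro g hg
      have hmem : g ∈ (Subalgebra.toSubmodule C).baseChange K := hSle (Submodule.subset_span hg)
      obtain ⟨z, rfl⟩ : ∃ z, ψK z = g := by
        rw [Submodule.baseChange_eq_span] at hmem
        clear hg
        induction hmem using Submodule.span_induction with
        | zero => exact ⟨0, map_zero _⟩
        | mem x hx =>
          obtain ⟨c, hc, rfl⟩ := hx
          exact ⟨(1 : K) ⊗ₜ[k] (⟨c, hc⟩ : C), e1 _⟩
        | smul r x _ hx => obtain ⟨y, rfl⟩ := hx; exact ⟨r • y, map_smul ψK r y⟩
        | add x y _ _ hx hy =>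
          obtain ⟨a, rfl⟩ := hx
          obtain ⟨b, rfl⟩ := hy
          exact ⟨a + b, map_add _ _ _⟩
      refine ⟨z, ⟨?_, ?_⟩, rfl⟩
      · rw [← hg.counit_eq_one]; exact (CoalgHomClass.counit_comp_apply ψK z).symm
      · refine TensorProduct.map_injective_of_flat_flat (ψK : K ⊗[k] C →ₐ[K] K ⊗[k] A).toLinearMap (ψK : K ⊗[k] C →ₐ[K] K ⊗[k] A).toLinearMap hinj hinj ?_
        refine (CoalgHomClass.map_comp_comul_apply ψK z).trans ?_
        rw [hg.comul_eq_tmul_self]
        rfl
    refine eq_top_iff.2 fun z _ => ?_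
    have hz : ψK z ∈ Groth.L25.LargestMult.S A K := by
      induction z with
      | zero => simp
      | add p q hp hq => rw [map_add]; exact add_mem (hp trivial) (hq trivial)
      | tmul c x =>
        rw [e1, LinearMap.lTensor_tmul]
        show c ⊗ₜ[k] (x : A) ∈ _
        rw [show c ⊗ₜ[k] (x : A) = c • ((1 : K) ⊗ₜ[k] (x : A)) by
          rw [TensorProduct.smul_tmul', smul_eq_mul, mul_one]]
        exact Submodule.smul_mem _ _ ((hCmem _).1 x.2)
    have hle : Groth.L25.LargestMult.S (k := k) A K ≤ (Submodule.span K {g : K ⊗[k] C | IsGroupLikeElem K g}).map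
        (ψK : K ⊗[k] C →ₐ[K] K ⊗[k] A).toLinearMap := by
      refine Submodule.span_le.2 fun g hg => ?_
      obtain ⟨y, hy, rfl⟩ := hgl g hg
      exact ⟨y, Submodule.subset_span hy, rfl⟩
    obtain ⟨y, hy, hyz⟩ := hle hz
    exact hinj hyz ▸ hy
  · -- the kernel is unipotent
    obtain ⟨B', _, _, ψ', J', _, hinj', hdiag', hJ', hU'⟩ := (Groth.Agent.S7967.result k' (k' ⊗[k] A)).1 h
    letI : Algebra k' K := (IsSepClosed.lift : k' →ₐ[k] K).toRingHom.toAlgebra
    haveI : IsScalarTower k k' K := IsScalarTower.of_algebraMap_eq fun c =>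
      ((IsSepClosed.lift : k' →ₐ[k] K).commutes c).symm
    let qJ : A →ₐc[k] A ⧸ J := Bialgebra.Quotient.mkBialgHom J
    let Q : k' ⊗[k] A →ₐc[k'] k' ⊗[k] (A ⧸ J) := Bialgebra.TensorProduct.map (BialgHom.id k' k') qJ
    let ι : k' →ₗ[k] K := (IsScalarTower.toAlgHom k k' K).toLinearMap
    have hcan : ∀ z : k' ⊗[k] A, Groth.L25.MultType.cancelBialg k k' K A ((1 : K) ⊗ₜ[k'] z) = ι.rTensor A z := by
      intro z
      induction z with
      | zero => simp
      | add p q hp hq => simp only [TensorProduct.tmul_add, map_add, hp, hq]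
      | tmul p q =>
        rw [Groth.L25.MultType.cancelBialg_tmul, LinearMap.rTensor_tmul, Algebra.smul_def, mul_one]
        rfl
    have hkey : ∀ g : k' ⊗[k] A, IsGroupLikeElem k' g → Q g = 1 := by
      intro g hg
      have h1 : ι.rTensor A g ∈ (Subalgebra.toSubmodule C).baseChange K := by
        rw [← hcan]; exact hSle (Submodule.subset_span (groupLike_tower hg))
      have hι : Function.Injective (ι.rTensor (A ⧸ J)) :=
        Module.Flat.rTensor_preserves_injective_linearMap (M := A ⧸ J) ι (algebraMap k' K).injective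
      refine hι ?_
      let mkK : K ⊗[k] A →ₗ[K] K ⊗[k] (A ⧸ J) := (Ideal.Quotient.mkₐ k J).toLinearMap.baseChange K
      have e2 : ∀ z, ι.rTensor (A ⧸ J) (Q z) = mkK (ι.rTensor A z) := by
        intro z
        induction z with
        | zero => simp
        | add p q hp hq => simp only [map_add, hp, hq]
        | tmul p q => simp [Q, mkK, qJ]
      let εK : K ⊗[k] A →ₗ[K] K ⊗[k] (A ⧸ J) :=
        ((Algebra.linearMap k (A ⧸ J)).comp (Coalgebra.counit (R := k) (A := A))).baseChange K
      have e3 : mkK (ι.rTensor A g) = εK (ι.rTensor A g) := by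
        rw [Submodule.baseChange_eq_span] at h1
        revert h1
        generalize ι.rTensor A g = w
        intro h1
        induction h1 using Submodule.span_induction with
        | zero => simp
        | add p q _ _ hp hq => rw [map_add, map_add, hp, hq]
        | smul r p _ hp => rw [map_smul, map_smul, hp]
        | mem x hx =>
          obtain ⟨c, hc, rfl⟩ := hx
          show (1 : K) ⊗ₜ[k] Ideal.Quotient.mk J c = (1 : K) ⊗ₜ[k] algebraMap k (A ⧸ J) (Coalgebra.counit (R := k) c)
          rw [IsScalarTower.algebraMap_apply k A (A ⧸ J), Ideal.Quotient.algebraMap_eq]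
          congr 1
          rw [Ideal.Quotient.eq]
          exact Ideal.mem_map_of_mem (ψ : C →+* A) (show (⟨c, hc⟩ : C) - algebraMap k C (Coalgebra.counit (R := k) c) ∈
            RingHom.ker (Bialgebra.counitAlgHom k C) by
              rw [RingHom.mem_ker, map_sub, AlgHom.commutes]; exact sub_self _)
      rw [e2, e3, show (1 : k' ⊗[k] (A ⧸ J)) = (1 : k') ⊗ₜ[k] (1 : A ⧸ J) from rfl, LinearMap.rTensor_tmul]
      have e4 : ∀ z : k' ⊗[k] A, εK (ι.rTensor A z) =
          algebraMap k' K (Coalgebra.counit (R := k') z) ⊗ₜ[k] (1 : A ⧸ J) := by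
        intro z
        induction z with
        | zero => simp
        | add p q hp hq => simp only [map_add, add_tmul, hp, hq]
        | tmul p q =>
          show εK ((algebraMap k' K p) ⊗ₜ[k] q) = _
          simp only [εK, LinearMap.baseChange_tmul, LinearMap.comp_apply, Algebra.linearMap_apply]
          rw [Algebra.algebraMap_eq_smul_one (Coalgebra.counit (R := k) q), ← TensorProduct.smul_tmul]
          simp [Algebra.smul_def, ← IsScalarTower.algebraMap_apply k k' K]
      rw [e4, hg.counit_eq_one]
      rfl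
    obtain ⟨Φ, hΦ⟩ := exists_quotLift J' Q fun z hz => by
      have : J' ≤ RingHom.ker (Q : k' ⊗[k] A →+* k' ⊗[k] (A ⧸ J)) := by
        rw [hJ', Ideal.map_le_iff_le_comap]
        intro b hb
        rw [RingHom.mem_ker] at hb
        have hb0 : Coalgebra.counit (R := k') b = 0 := hb
        have e1 : ∀ b, Q (ψ' b) = Coalgebra.counit (R := k') b • (1 : k' ⊗[k] (A ⧸ J)) := by
          intro b
          have hbm : b ∈ Submodule.span k' {g : B' | IsGroupLikeElem k' g} := hdiag' ▸ Submodule.mem_top
          induction hbm using Submodule.span_induction with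
          | zero => simp
          | add p q _ _ hp hq => rw [map_add, map_add, map_add, hp, hq, add_smul]
          | smul r p _ hp => rw [map_smul, map_smul, map_smul, hp, smul_eq_mul, ← smul_smul]
          | mem g hg => rw [hkey _ (hg.map ψ'), hg.counit_eq_one, one_smul]
        show Q (ψ' b) = 0
        rw [e1, hb0, zero_smul]
      exact this hz
    have hsurj : Function.Surjective Φ := fun y => by
      induction y with
      | zero => exact ⟨0, map_zero _⟩
      | add p q hp hq =>
        obtain ⟨a, rfl⟩ := hp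
        obtain ⟨b, rfl⟩ := hq
        exact ⟨a + b, map_add _ _ _⟩
      | tmul p q =>
        obtain ⟨a, rfl⟩ := Ideal.Quotient.mk_surjective q
        exact ⟨Ideal.Quotient.mk J' (p ⊗ₜ a), by rw [hΦ]; simp [Q, qJ]⟩
    exact (Groth.Agent.S7951.result k k' (A ⧸ J)).2 (Groth.L01.MultByUnip.isUnipotent_of_surjective Φ hsurj hU')

end Groth.L01.SepTrig
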