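import Groth.Agent.L01.UnipSplit.Main
import Groth.Agent.L25.UnipExt
import Groth.Agent.L01.DimOne.Ga2

/-!
# A group with a normal additive subgroup is, as a scheme, the quotient times the line
-/

set_option autoImplicit false

universe u

open TensorProduct WithConv Polynomial Groth.L08 Groth.L01.UnipSplit
open Groth.L01.SmoothKer (IsPrim)

noncomputable section

namespace Groth.L01.Unip

variable {k : Type u} [Field k] {A B Q : Type u} [CommRing A] [HopfAlgebra k A] [CommRing B] [HopfAlgebra k B]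
  [CommRing Q] [HopfAlgebra k Q]

/-- The point `u` of the line, pulled back. -/
def linePt (p : A →ₐc[k] Q) (e : k[X] ≃ₐ[k] Q) {R : Type u} [CommRing R] [Algebra k R] (u : R) :
    WithConv (A →ₐ[k] R) :=
  toConv (((Polynomial.aeval u).comp e.symm.toAlgHom).comp (p : A →ₐ[k] Q))

theorem linePt_add (p : A →ₐc[k] Q) (e : k[X] ≃ₐ[k] Q) (ht : IsPrim (k := k) (e X)) {R : Type u} [CommRing R]
    [Algebra k R] (u v : R) : linePt p e (u + v) = linePt p e u * linePt p e v := by
  let q : R → WithConv (Q →ₐ[k] R) := fun u => toConv ((Polynomial.aeval u).comp e.symm.toAlgHom)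
  have h : q (u + v) = q u * q v := by
    refine WithConv.ofConv_injective (AlgHom.ext fun z => ?_)
    obtain ⟨P, rfl⟩ := e.surjective z
    refine AlgHom.congr_fun (Polynomial.algHom_ext (f := (q (u + v)).ofConv.comp e.toAlgHom)
      (g := (q u * q v).ofConv.comp e.toAlgHom) ?_) P
    show (q (u + v)).ofConv (e X) = (q u * q v).ofConv (e X)
    rw [DimOne.conv_prim ht]
    simp [q]
  show toConv ((q (u + v)).ofConv.comp (p : A →ₐ[k] Q)) = _
  rw [h]
  exact pre_mul p (q u) (q v)

theorem linePt_zero (p : A →ₐc[k] Q) (e : k[X] ≃ₐ[k] Q) (ht : IsPrim (k := k) (e X)) {R : Type u} [CommRing R]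
    [Algebra k R] : linePt p e (0 : R) = 1 := by
  have h := linePt_add p e ht (0 : R) 0
  rw [add_zero] at h
  let x := linePt p e (0 : R)
  calc x = pinv x * x * x := by rw [pinv_mul, one_mul]
    _ = 1 := by rw [mul_assoc, ← h, pinv_mul]

theorem linePt_post (p : A →ₐc[k] Q) (e : k[X] ≃ₐ[k] Q) {R S : Type u} [CommRing R] [Algebra k R] [CommRing S]
    [Algebra k S] (f : R →ₐ[k] S) (u : R) :
    toConv (f.comp (linePt p e u).ofConv) = linePt p e (f u) := by
  refine WithConv.ofConv_injective (AlgHom.ext fun a => ?_)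
  show f (Polynomial.aeval u (e.symm (p a))) = Polynomial.aeval (f u) (e.symm (p a))
  rw [Polynomial.aeval_algHom_apply]

/-- If the kernel of a quotient map `G → H` is a line then `G ≅ H × 𝔸¹`. -/
theorem exists_polynomial_equiv (ψ : B →ₐc[k] A) (hψ : Function.Injective ψ) (p : A →ₐc[k] Q)
    (hp : Function.Surjective p) (e : k[X] ≃ₐ[k] Q) (ht : IsPrim (k := k) (e X))
    (hJ : RingHom.ker (p : A →ₐ[k] Q) = Ideal.map (ψ : B →+* A) (RingHom.ker (Bialgebra.counitAlgHom k B))) :
    Nonempty (B[X] ≃ₐ[k] A) := by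
  set J := Ideal.map (ψ : B →+* A) (RingHom.ker (Bialgebra.counitAlgHom k B)) with hJdef
  have hkills : ∀ {R : Type u} [CommRing R] [Algebra k R] (n : WithConv (A →ₐ[k] R)), IsKer ψ n →
      ∀ x, p x = 0 → n.ofConv x = 0 := fun n hn x hx => hn.kills hJdef x (hJ ▸ hx)
  have hline : ∀ {R : Type u} [CommRing R] [Algebra k R] (u : R), IsKer ψ (linePt p e u) := by
    intro R _ _ u
    refine WithConv.ofConv_injective (AlgHom.ext fun b => ?_)
    show (linePt p e u).ofConv (ψ b) = _
    have hb : ψ b - algebraMap k A (Coalgebra.counit (R := k) b) ∈ RingHom.ker (p : A →ₐ[k] Q) := by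
      rw [hJ, ← AlgHom.commutes (ψ : B →ₐ[k] A)]
      show ψ b - ψ (algebraMap k B (Coalgebra.counit b)) ∈ _
      rw [← map_sub]
      refine Ideal.mem_map_of_mem (ψ : B →+* A) (RingHom.mem_ker.2 ?_)
      rw [map_sub, AlgHom.commutes]
      exact sub_self _
    have h1 : p (ψ b - algebraMap k A (Coalgebra.counit (R := k) b)) = 0 := hb
    have h2 : (linePt p e u).ofConv (ψ b - algebraMap k A (Coalgebra.counit (R := k) b)) = 0 := by
      show Polynomial.aeval u (e.symm (p _)) = 0
      rw [h1, map_zero, map_zero]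
    rw [map_sub, AlgHom.commutes, sub_eq_zero] at h2
    rw [h2, AlgHom.convOne_apply]
  obtain ⟨a, ha⟩ := hp (e X)
  have hprim : Prim ψ a := by
    intro R _ _ n₁ n₂ h₁ h₂
    let m : ∀ n : WithConv (A →ₐ[k] R), IsKer ψ n → WithConv (Q →ₐ[k] R) := fun n hn =>
      toConv (AlgHom.liftOfSurjective (p : A →ₐ[k] Q) hp n.ofConv fun x hx => hkills n hn x hx)
    have hm : ∀ n hn, n = toConv ((m n hn).ofConv.comp (p : A →ₐ[k] Q)) := fun n hn =>
      WithConv.ofConv_injective (AlgHom.ext fun x =>
        (AlgHom.liftOfSurjective_apply (p : A →ₐ[k] Q) hp n.ofConv (fun x hx => hkills n hn x hx) x).symm)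
    conv_lhs => rw [hm n₁ h₁, hm n₂ h₂, ← pre_mul]
    conv_rhs => rw [hm n₁ h₁, hm n₂ h₂]
    show (m n₁ h₁ * m n₂ h₂).ofConv (p a) = (m n₁ h₁).ofConv (p a) + (m n₂ h₂).ofConv (p a)
    rw [ha, DimOne.conv_prim ht]
  haveI : Module.FaithfullyFlat (ψ : B →ₐ[k] A).range A :=
    Groth.L25.HopfFlat.faithfullyFlat _ (Groth.L25.UnipExt.isHopfSubalgebra_range ψ)
  obtain ⟨F, hF⟩ := exists_torsor_lift ψ (C := (ψ : B →ₐ[k] A).range)
    (fun x => by obtain ⟨_, b, rfl⟩ := x; exact ⟨b, rfl⟩) (fun b => ⟨⟨ψ b, b, rfl⟩, rfl⟩) hprim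
  let Φ : B[X] →ₐ[k] A := Polynomial.eval₂AlgHom (ψ : B →ₐ[k] A) F fun b => Commute.all _ _
  have hΦC : ∀ b, Φ (C b) = ψ b := fun b => by simp [Φ]
  have hΦX : Φ X = F := by simp [Φ]
  -- the universal point and the universal point of the kernel
  let T := A ⊗[k] Q
  let i₁ : A →ₐ[k] T := Algebra.TensorProduct.includeLeft
  let i₂ : Q →ₐ[k] T := Algebra.TensorProduct.includeRight
  let g : WithConv (A →ₐ[k] T) := toConv i₁
  let m : WithConv (A →ₐ[k] T) := toConv (i₂.comp (p : A →ₐ[k] Q))
  have hm : m = linePt p e (i₂ (e X)) := by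
    refine WithConv.ofConv_injective (AlgHom.ext fun x => ?_)
    show i₂ (p x) = Polynomial.aeval (i₂ (e X)) (e.symm (p x))
    rw [Polynomial.aeval_algHom_apply, ← AlgEquiv.coe_toAlgHom e, Polynomial.aeval_algHom_apply, Polynomial.aeval_X_left_apply]
    simp
  have hmker : IsKer ψ m := hm ▸ hline _
  let ρ : A →ₐ[k] T := (g * m).ofConv
  have hρF : ρ F = i₁ F + i₂ (e X) := by
    show (g * m).ofConv F = _
    rw [hF _ g m hmker]
    show i₁ F + i₂ (p a) = _
    rw [ha]
  have hρψ : ∀ b, ρ (ψ b) = i₁ (ψ b) := fun b => by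
    have h := pre_mul ψ g m
    rw [show toConv (m.ofConv.comp (ψ : B →ₐ[k] A)) = 1 from hmker, mul_one] at h
    exact congrArg (fun w : WithConv (B →ₐ[k] T) => w.ofConv b) h
  refine ⟨AlgEquiv.ofBijective Φ ⟨?_, ?_⟩⟩
  · -- injectivity
    let ι : T ≃ₐ[k] A[X] := (Algebra.TensorProduct.congr (AlgEquiv.refl (R := k) (A₁ := A)) e.symm).trans
      ((polyEquivTensor k A).symm.restrictScalars k)
    have hι1 : ∀ x, ι (i₁ x) = C x := fun x => by
      show (polyEquivTensor k A).symm (x ⊗ₜ[k] e.symm 1) = C x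
      rw [map_one, polyEquivTensor_symm_apply_tmul_eq_smul, Polynomial.map_one, ← Polynomial.C_mul', _root_.mul_one]
    have hι2 : ι (i₂ (e X)) = X := by
      show (polyEquivTensor k A).symm ((1 : A) ⊗ₜ[k] e.symm (e X)) = X
      rw [AlgEquiv.symm_apply_apply, polyEquivTensor_symm_apply_tmul_eq_smul, Polynomial.map_X, one_smul]
    have key : ∀ P : B[X], ι (ρ (Φ P)) = (P.map (ψ : B →+* A)).comp (C F + X) := by
      intro P
      induction P using Polynomial.induction_on' with
      | add P P' hP hP' => rw [map_add, map_add, map_add, hP, hP', Polynomial.map_add, Polynomial.add_comp]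
      | monomial n b =>
        rw [← C_mul_X_pow_eq_monomial, map_mul, map_pow, hΦC, hΦX, map_mul, map_pow, hρψ, hρF, map_mul, map_pow, map_add,
          hι1, hι1, hι2, Polynomial.map_mul, Polynomial.map_pow, Polynomial.map_C, Polynomial.map_X, Polynomial.mul_comp,
          Polynomial.pow_comp, Polynomial.C_comp, Polynomial.X_comp]
        rfl
    refine (injective_iff_map_eq_zero Φ).2 fun P hP => ?_
    have h0 := key P
    rw [hP, map_zero, map_zero] at h0
    have h1 := congrArg (fun q : A[X] => q.comp (X - C F)) h0.symm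
    simp only [Polynomial.comp_assoc, Polynomial.zero_comp, Polynomial.add_comp, Polynomial.C_comp, Polynomial.X_comp,
      add_sub_cancel, Polynomial.comp_X] at h1
    exact (Polynomial.map_eq_zero_iff hψ).1 h1
  · -- surjectivity
    let ν : A → WithConv (A →ₐ[k] A) := fun u => linePt p e u
    let s : A →ₐ[k] A := (toConv (AlgHom.id k A) * ν (-F)).ofConv
    have hs : ∀ x, s x ∈ (ψ : B →ₐ[k] A).range := by
      have hρs : ρ.comp s = i₁.comp s := by
        apply WithConv.toConv_injective
        simp only [s, ν]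
        rw [post_mul, post_mul, linePt_post, linePt_post, map_neg, map_neg, hρF,
          show (toConv (ρ.comp (toConv (AlgHom.id k A)).ofConv) : WithConv (A →ₐ[k] T)) = g * m from rfl,
          show (toConv (i₁.comp (toConv (AlgHom.id k A)).ofConv) : WithConv (A →ₐ[k] T)) = g from rfl,
          hm, mul_assoc, ← linePt_add p e ht]
        congr 2
        abel
      intro x
      refine Groth.L25.UnipExt.mem_range_of_fixed (J := J) (ψ := ψ) hJdef ?_
      let p' : Q →ₐ[k] A ⧸ J := AlgHom.liftOfSurjective (p : A →ₐ[k] Q) hp (Ideal.Quotient.mkₐ k J)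
        fun z hz => Ideal.Quotient.eq_zero_iff_mem.2 (hJ ▸ hz)
      have hp' : ∀ z, p' (p z) = Ideal.Quotient.mkₐ k J z := fun z =>
        AlgHom.liftOfSurjective_apply (p : A →ₐ[k] Q) hp (Ideal.Quotient.mkₐ k J) (fun z hz => Ideal.Quotient.eq_zero_iff_mem.2 (hJ ▸ hz)) z
      have hρ : ∀ y, Algebra.TensorProduct.map (AlgHom.id k A) p' (ρ y) =
          TensorProduct.map LinearMap.id (Ideal.Quotient.mkₐ k J).toLinearMap (Coalgebra.comul (R := k) y) := by
        intro y
        show Algebra.TensorProduct.map (AlgHom.id k A) p' ((g * m).ofConv y) = _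
        rw [AlgHom.convMul_apply]
        induction Coalgebra.comul (R := k) y with
        | zero => simp
        | add a b ha hb => simp only [map_add, ha, hb]
        | tmul a b =>
          rw [Algebra.TensorProduct.lift_tmul, TensorProduct.map_tmul]
          show Algebra.TensorProduct.map (AlgHom.id k A) p' ((a ⊗ₜ[k] (1 : Q)) * ((1 : A) ⊗ₜ[k] p b)) = a ⊗ₜ[k] Ideal.Quotient.mkₐ k J b
          rw [Algebra.TensorProduct.tmul_mul_tmul, _root_.mul_one, _root_.one_mul, Algebra.TensorProduct.map_tmul, hp']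
          rfl
      rw [← hρ, show ρ (s x) = i₁ (s x) from AlgHom.congr_fun hρs x]
      show Algebra.TensorProduct.map (AlgHom.id k A) p' (s x ⊗ₜ[k] (1 : Q)) = _
      rw [Algebra.TensorProduct.map_tmul, map_one]
      rfl
    intro x
    have hid : toConv (AlgHom.id k A) = toConv s * ν F := by
      simp only [s, ν, toConv_ofConv]
      rw [mul_assoc, ← linePt_add p e ht, neg_add_cancel, linePt_zero p e ht, mul_one]
    have hxid : x = (toConv s * ν F).ofConv x := by rw [← hid]; rfl
    rw [hxid, AlgHom.convMul_apply]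
    show _ ∈ Φ.range
    induction Coalgebra.comul (R := k) x with
    | zero => rw [map_zero]; exact zero_mem _
    | add a b ha hb => rw [map_add]; exact add_mem ha hb
    | tmul a b =>
      rw [Algebra.TensorProduct.lift_tmul]
      refine mul_mem ?_ ?_
      · obtain ⟨c, hc⟩ := hs a
        exact ⟨C c, (hΦC c).trans hc⟩
      · refine ⟨(e.symm (p b)).map (algebraMap k B), ?_⟩
        show Φ _ = Polynomial.aeval F (e.symm (p b))
        induction e.symm (p b) using Polynomial.induction_on' with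
        | add P P' hP hP' => rw [Polynomial.map_add, map_add, map_add, hP, hP']
        | monomial n c =>
          rw [← C_mul_X_pow_eq_monomial, Polynomial.map_mul, Polynomial.map_pow, Polynomial.map_C, Polynomial.map_X,
            map_mul, map_pow, hΦC, hΦX, map_mul, map_pow, Polynomial.aeval_C, Polynomial.aeval_X]
          exact congrArg (· * F ^ n) ((ψ : B →ₐ[k] A).commutes c)

end Groth.L01.Unip
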