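import Groth.Agent.L08.KaehlerHopf
import Groth.Prelude.Def_CartDual
import Mathlib.RingTheory.Etale.Field
import Mathlib.RingTheory.Etale.Finite
import Mathlib.RingTheory.Unramified.Field
import Mathlib.RingTheory.Trace.Basic
import Mathlib.RingTheory.Artinian.Module
import Mathlib.RingTheory.FiniteType

/-!
# The trace form of a finite commutative Hopf algebra is an integral
-/

set_option autoImplicit false

universe u

open TensorProduct

noncomputable section

namespace Groth.L01.TraceIntegral

variable (k : Type u) [Field k] (A : Type u) [CommRing A] [HopfAlgebra k A] [Module.Finite k A]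

/-- The shear. -/
def shear : A ⊗[k] A →ₐ[A] A ⊗[k] A :=
  Algebra.TensorProduct.lift (Algebra.ofId A (A ⊗[k] A)) (Bialgebra.comulAlgHom k A) fun _ _ => Commute.all _ _

theorem shear_tmul (x a : A) : shear k A (x ⊗ₜ a) = (x ⊗ₜ[k] (1 : A)) * Coalgebra.comul (R := k) a := by
  simp [shear]

theorem shear_surjective : Function.Surjective (shear k A) := by
  suffices h : ∀ a : A, (1 : A) ⊗ₜ[k] a ∈ Set.range (shear k A) by
    intro z
    induction z with
    | zero => exact ⟨0, map_zero _⟩
    | add p q hp hq =>
      obtain ⟨u, rfl⟩ := hp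
      obtain ⟨v, rfl⟩ := hq
      exact ⟨u + v, map_add _ _ _⟩
    | tmul x a =>
      obtain ⟨u, hu⟩ := h a
      exact ⟨x • u, by rw [map_smul, hu, TensorProduct.smul_tmul', smul_eq_mul, mul_one]⟩
  intro a
  let S : A →ₗ[k] A := HopfAlgebraStruct.antipode k
  refine ⟨S.rTensor A (Coalgebra.comul (R := k) a), ?_⟩
  let G : (A ⊗[k] A) ⊗[k] A →ₗ[k] A ⊗[k] A := (LinearMap.mul' k A ∘ₗ S.rTensor A).rTensor A
  have h1 : ∀ w : A ⊗[k] A, shear k A (S.rTensor A w) =
      G ((TensorProduct.assoc k A A A).symm ((Coalgebra.comul (R := k) (A := A)).lTensor A w)) := by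
    intro w
    induction w with
    | zero => simp
    | add p q hp hq => simp only [map_add, hp, hq]
    | tmul p q =>
      rw [LinearMap.rTensor_tmul, shear_tmul, LinearMap.lTensor_tmul]
      induction Coalgebra.comul (R := k) q with
      | zero => simp
      | add s t hs ht => simp only [mul_add, TensorProduct.tmul_add, map_add, hs, ht]
      | tmul s t => simp [G]
  rw [h1, ← Coalgebra.coassoc_apply, LinearEquiv.symm_apply_apply]
  have h2 : ∀ w : A ⊗[k] A, G ((Coalgebra.comul (R := k) (A := A)).rTensor A w) =
      (1 : A) ⊗ₜ[k] TensorProduct.lid k A ((Coalgebra.counit (R := k) (A := A)).rTensor A w) := by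
    intro w
    induction w with
    | zero => simp
    | add p q hp hq => simp only [map_add, TensorProduct.tmul_add, hp, hq]
    | tmul p q =>
      simp only [G, S, LinearMap.rTensor_tmul, LinearMap.comp_apply]
      rw [HopfAlgebra.mul_antipode_rTensor_comul_apply, Algebra.algebraMap_eq_smul_one, TensorProduct.smul_tmul,
        TensorProduct.lid_tmul]
  rw [h2, Coalgebra.rTensor_counit_comul, TensorProduct.lid_tmul, one_smul]

theorem shear_bijective : Function.Bijective (shear k A) :=
  ⟨OrzechProperty.injective_of_surjective_endomorphism (shear k A).toLinearMap (shear_surjective k A),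
    shear_surjective k A⟩

/-- The trace is an integral. -/
theorem trace_comul (a : A) :
    TensorProduct.rid k A ((Algebra.trace k A).lTensor A (Coalgebra.comul (R := k) a)) =
      Algebra.trace k A a • (1 : A) := by
  have hT : ∀ w : A ⊗[k] A, Algebra.trace A (A ⊗[k] A) w = TensorProduct.rid k A ((Algebra.trace k A).lTensor A w) := by
    intro w
    induction w with
    | zero => simp
    | add p q hp hq => simp only [map_add, hp, hq]
    | tmul c b =>
      rw [LinearMap.lTensor_tmul, TensorProduct.rid_tmul, show c ⊗ₜ[k] b = c • ((1 : A) ⊗ₜ[k] b) by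
        rw [TensorProduct.smul_tmul', smul_eq_mul, mul_one], map_smul, smul_eq_mul, Algebra.smul_def, mul_comm]
      congr 1
      rw [Algebra.trace_apply, Algebra.trace_apply, ← LinearMap.trace_baseChange]
      congr 1
      refine LinearMap.ext fun z => ?_
      induction z with
      | zero => simp
      | add p q hp hq => simp only [map_add, hp, hq]
      | tmul p q => simp
  have h := Algebra.trace_eq_of_algEquiv (AlgEquiv.ofBijective (shear k A) (shear_bijective k A)) ((1 : A) ⊗ₜ[k] a)
  have e : AlgEquiv.ofBijective (shear k A) (shear_bijective k A) ((1 : A) ⊗ₜ[k] a) = Coalgebra.comul (R := k) a := by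
    rw [AlgEquiv.ofBijective_apply, shear_tmul, show ((1 : A) ⊗ₜ[k] (1 : A)) = 1 from rfl, one_mul]
  rw [e, hT, hT] at h
  rw [h, LinearMap.lTensor_tmul, TensorProduct.rid_tmul]

/-- If the rank is invertible the trace form is nondegenerate. -/
theorem trace_nondegenerate (hn : (Module.finrank k A : k) ≠ 0) {a : A} (ha : ∀ b, Algebra.trace k A (a * b) = 0) :
    a = 0 := by
  let t := Algebra.trace k A
  let S : A →ₗ[k] A := HopfAlgebraStruct.antipode k
  let K : Submodule k A := ⨅ b, LinearMap.ker (t ∘ₗ LinearMap.mulRight k b)
  have hK : ∀ {x}, x ∈ K ↔ ∀ b, t (x * b) = 0 := fun {x} => by simp [K]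
  have hco : ∀ x ∈ K, ∀ b, TensorProduct.rid k A ((t ∘ₗ LinearMap.mulRight k b).lTensor A (Coalgebra.comul (R := k) x)) = 0 := by
    intro x hx b
    let F : A ⊗[k] A → A := fun w =>
      TensorProduct.rid k A (t.lTensor A (Coalgebra.comul (R := k) x * w))
    let G : A ⊗[k] (A ⊗[k] A) →ₗ[k] A :=
      LinearMap.mul' k A ∘ₗ TensorProduct.map S ((TensorProduct.rid k A).toLinearMap ∘ₗ t.lTensor A ∘ₗ
        LinearMap.mulLeft k (Coalgebra.comul (R := k) x))
    have h1 : ∀ w : A ⊗[k] A, G ((Coalgebra.comul (R := k) (A := A)).lTensor A w) = 0 := by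
      intro w
      induction w with
      | zero => simp
      | add p q hp hq => rw [map_add, map_add, hp, hq, add_zero]
      | tmul p q =>
        simp only [G, LinearMap.lTensor_tmul, LinearMap.comp_apply, TensorProduct.map_tmul, LinearMap.mul'_apply,
          LinearMap.mulLeft_apply, LinearEquiv.coe_coe]
        rw [← Bialgebra.comul_mul, trace_comul, show Algebra.trace k A (x * q) = 0 from hK.1 hx q, zero_smul, mul_zero]
    have h2 := h1 (Coalgebra.comul (R := k) b)
    rw [← Coalgebra.coassoc_apply] at h2
    have h3 : ∀ w : A ⊗[k] A, G (TensorProduct.assoc k A A A ((Coalgebra.comul (R := k) (A := A)).rTensor A w)) =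
        TensorProduct.rid k A (t.lTensor A (Coalgebra.comul (R := k) x *
          ((1 : A) ⊗ₜ[k] TensorProduct.lid k A ((Coalgebra.counit (R := k) (A := A)).rTensor A w)))) := by
      intro w
      induction w with
      | zero => simp
      | add p q hp hq => simp only [map_add, TensorProduct.tmul_add, mul_add, hp, hq]
      | tmul p q =>
        have h4 : ∀ v : A ⊗[k] A, G (TensorProduct.assoc k A A A (v ⊗ₜ[k] q)) =
            TensorProduct.rid k A (t.lTensor A (Coalgebra.comul (R := k) x *
              (LinearMap.mul' k A (S.rTensor A v) ⊗ₜ[k] q))) := by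
          intro v
          induction v with
          | zero => simp
          | add p' q' hp hq => simp only [TensorProduct.add_tmul, map_add, mul_add, hp, hq]
          | tmul p' q' =>
            simp only [G, LinearMap.comp_apply, TensorProduct.assoc_tmul, TensorProduct.map_tmul, LinearMap.mul'_apply,
              LinearMap.rTensor_tmul, LinearMap.mulLeft_apply, LinearEquiv.coe_coe]
            induction Coalgebra.comul (R := k) x with
            | zero => simp
            | add s s' hs hs' => simp only [add_mul, map_add, mul_add, hs, hs']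
            | tmul s s' => simp [mul_left_comm]
        rw [LinearMap.rTensor_tmul, h4, HopfAlgebra.mul_antipode_rTensor_comul_apply, Algebra.algebraMap_eq_smul_one,
          TensorProduct.smul_tmul, LinearMap.rTensor_tmul, TensorProduct.lid_tmul]
    rw [h3, Coalgebra.rTensor_counit_comul, TensorProduct.lid_tmul, one_smul] at h2
    refine Eq.trans ?_ h2
    induction Coalgebra.comul (R := k) x with
    | zero => simp
    | add s s' hs hs' => simp only [add_mul, map_add, hs, hs']
    | tmul s s' => simp
  have hmem : ∀ x ∈ K, Coalgebra.comul (R := k) x ∈ LinearMap.range (K.subtype.lTensor A) := by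
    intro x hx
    classical
    let bA := Module.Basis.ofVectorSpace k A
    let e := TensorProduct.equivFinsuppOfBasisLeft (N := A) bA
    have hrepr : ∀ (y : A →ₗ[k] k) (z : A ⊗[k] A) i, bA.repr (TensorProduct.rid k A (y.lTensor A z)) i = y (e z i) := by
      intro y z i
      induction z with
      | zero => simp
      | add p q hp hq => simp only [map_add, Finsupp.add_apply, hp, hq]
      | tmul p q => simp [e, mul_comm (y q)]
    have hz : ∀ i, e (Coalgebra.comul (R := k) x) i ∈ K := fun i => hK.2 fun b => by
      have := hrepr (t ∘ₗ LinearMap.mulRight k b) (Coalgebra.comul (R := k) x) i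
      rw [hco x hx b, map_zero, Finsupp.zero_apply] at this
      exact this.symm
    rw [← e.symm_apply_apply (Coalgebra.comul (R := k) x)]
    simp only [e, TensorProduct.equivFinsuppOfBasisLeft_symm_apply]
    exact sum_mem fun i _ => ⟨bA i ⊗ₜ ⟨_, hz i⟩, rfl⟩
  have hε : ∀ x ∈ K, Coalgebra.counit (R := k) x = 0 := by
    intro x hx
    obtain ⟨w, hw⟩ := hmem x hx
    have h5 : ∀ w : A ⊗[k] K, LinearMap.mul' k A (S.rTensor A (K.subtype.lTensor A w)) ∈ K := by
      intro w
      induction w with
      | zero => simp
      | add p q hp hq => simp only [map_add]; exact add_mem hp hq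
      | tmul p q =>
        refine hK.2 fun b => ?_
        simp only [LinearMap.lTensor_tmul, LinearMap.rTensor_tmul, LinearMap.mul'_apply, Submodule.coe_subtype]
        rw [show S p * (q : A) * b = (q : A) * (S p * b) by ring]
        exact hK.1 q.2 _
    have h6 := h5 w
    rw [hw, HopfAlgebra.mul_antipode_rTensor_comul_apply] at h6
    have h7 := hK.1 h6 1
    rw [mul_one] at h7
    have h8 : t (algebraMap k A (Coalgebra.counit (R := k) x)) =
        Coalgebra.counit (R := k) x * (Module.finrank k A : k) := by
      rw [show t = Algebra.trace k A from rfl, Algebra.trace_algebraMap, nsmul_eq_mul, mul_comm]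
    rw [h8] at h7
    exact (mul_eq_zero.1 h7).resolve_right hn
  obtain ⟨w, hw⟩ := hmem a (hK.2 ha)
  have h9 := Coalgebra.lTensor_counit_comul (R := k) a
  rw [← hw, ← LinearMap.lTensor_comp_apply,
    show Coalgebra.counit (R := k) (A := A) ∘ₗ K.subtype = 0 from LinearMap.ext fun y => hε y y.2,
    LinearMap.lTensor_zero, LinearMap.zero_apply] at h9
  simpa using (congrArg (TensorProduct.rid k A) h9).symm

/-- A finite Hopf algebra of invertible rank is étale. -/
theorem etale_of_finrank_ne_zero (hn : (Module.finrank k A : k) ≠ 0) : Algebra.Etale k A := by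
  haveI : IsArtinianRing A := IsArtinianRing.of_finite k A
  haveI : IsReduced A := ⟨fun x hx => trace_nondegenerate k A hn fun b => by
    have h : IsNilpotent (x * b) := (Commute.all x b).isNilpotent_mul_right hx
    exact (LinearMap.isNilpotent_trace_of_isNilpotent (h.map (Algebra.lmul k A))).eq_zero⟩
  let I : Ideal A := Groth.L08.KaehlerHopf.aug k A
  -- in a reduced artinian ring every element is a multiple of its square
  have hreg : ∀ x : A, ∃ y, x = y * (x * x) := by
    intro x
    let e := IsArtinianRing.equivPi A
    classical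
    let f : ∀ I : MaximalSpectrum A, A ⧸ I.asIdeal := fun I =>
      if h : e x I = 0 then 0 else ((Ideal.Quotient.isDomain I.asIdeal) |> fun _ =>
        (Ideal.Quotient.maximal_ideal_iff_isField_quotient I.asIdeal).1 inferInstance |>.mul_inv_cancel h).choose
    refine ⟨e.symm f, e.injective (funext fun I => ?_)⟩
    rw [map_mul, map_mul, AlgEquiv.apply_symm_apply, Pi.mul_apply, Pi.mul_apply]
    by_cases h : e x I = 0
    · simp [h]
    · simp only [f, dif_neg h]
      have := ((Ideal.Quotient.maximal_ideal_iff_isField_quotient I.asIdeal).1 inferInstance |>.mul_inv_cancel h).choose_spec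
      exact ((mul_left_comm _ _ _).trans (by rw [← mul_assoc, this, one_mul])).symm
  have hI : I * I = I := le_antisymm Ideal.mul_le_right fun x hx => by
    obtain ⟨y, hy⟩ := hreg x
    rw [hy]
    exact Ideal.mul_mem_left _ y (Ideal.mul_mem_mul hx hx)
  haveI : Subsingleton I.Cotangent := (Ideal.cotangent_subsingleton_iff I).2 hI
  obtain ⟨e⟩ := Groth.L08.KaehlerHopf.exists_equiv (R := k) (A := A)
  haveI : Subsingleton (Ω[A⁄k]) := e.toEquiv.subsingleton
  haveI : Algebra.FormallyUnramified k A := ⟨inferInstance⟩
  haveI : Algebra.FormallyEtale k A := Algebra.FormallyEtale.of_formallyUnramified_of_field k A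
  exact ⟨inferInstance, Algebra.FinitePresentation.of_finiteType.1 inferInstance⟩

/-- If a Hopf algebra is étale and its dual reduced, the rank is invertible. -/
theorem finrank_ne_zero [Coalgebra.IsCocomm k A] (hA : Algebra.Etale k A) [IsReduced (CartDual.D k A)] :
    (Module.finrank k A : k) ≠ 0 := by
  intro h0
  let T : CartDual.D k A := WithConv.toConv (Algebra.trace k A)
  have hT : T * T = 0 := WithConv.ofConv_injective (LinearMap.ext fun a => by
    rw [LinearMap.convMul_apply, show T.ofConv = Algebra.trace k A from rfl]
    have e : ∀ w : A ⊗[k] A, LinearMap.mul' k k (TensorProduct.map (Algebra.trace k A) (Algebra.trace k A) w) =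
        Algebra.trace k A (TensorProduct.rid k A ((Algebra.trace k A).lTensor A w)) := by
      intro w
      induction w with
      | zero => simp
      | add p q hp hq => simp only [map_add, hp, hq]
      | tmul p q => simp [mul_comm]
    rw [e, trace_comul, map_smul, show (1 : A) = algebraMap k A 1 from (map_one _).symm, Algebra.trace_algebraMap,
      nsmul_eq_mul, h0, zero_mul, smul_zero]
    rfl)
  have hT0 : T = 0 := IsNilpotent.eq_zero ⟨2, by rw [pow_two, hT]⟩
  haveI := hA
  haveI : IsArtinianRing A := IsArtinianRing.of_finite k A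
  haveI : IsReduced A := Algebra.FormallyUnramified.isReduced_of_field k A
  have hne : Algebra.trace k A ≠ 0 := by
    classical
    let ε := Bialgebra.counitAlgHom k A
    haveI : (RingHom.ker ε).IsMaximal := RingHom.ker_isMaximal_of_surjective ε fun c => ⟨algebraMap k A c, ε.commutes c⟩
    let m : MaximalSpectrum A := ⟨RingHom.ker ε, inferInstance⟩
    let E := IsArtinianRing.equivPi A
    let e : A := E.symm (Pi.single m 1)
    have hem : ∀ x : A, ε x = 0 → e * x = 0 := fun x hx => E.injective (funext fun I => by
      rw [map_mul, AlgEquiv.apply_symm_apply, Pi.mul_apply, map_zero, Pi.zero_apply]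
      by_cases h : I = m
      · subst h
        rw [IsArtinianRing.equivPi_apply, Ideal.Quotient.eq_zero_iff_mem.2 (show x ∈ m.asIdeal from hx), mul_zero]
      · rw [Pi.single_eq_of_ne h, zero_mul])
    have he1 : ε e = 1 := by
      have h : E e m = 1 := by rw [AlgEquiv.apply_symm_apply, Pi.single_eq_same]
      rw [IsArtinianRing.equivPi_apply] at h
      have h' : e - 1 ∈ RingHom.ker ε := Ideal.Quotient.eq.1 (h.trans (map_one _).symm)
      rw [RingHom.mem_ker, map_sub, map_one, sub_eq_zero] at h'
      exact h'
    have hL : LinearMap.mulLeft k e = LinearMap.smulRight ε.toLinearMap e := LinearMap.ext fun a => by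
      show e * a = ε a • e
      have := hem (a - algebraMap k A (ε a)) (by simp)
      rw [mul_sub, sub_eq_zero] at this
      rw [this, mul_comm, Algebra.smul_def]
    intro h
    have h1 : Algebra.trace k A e = 1 := by
      rw [Algebra.trace_apply, show Algebra.lmul k A e = LinearMap.mulLeft k e from rfl, hL, LinearMap.trace_smulRight]
      exact he1
    rw [h, LinearMap.zero_apply] at h1
    exact zero_ne_one h1
  exact hne (congrArg WithConv.ofConv hT0)

end Groth.L01.TraceIntegral
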