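import Groth.Agent.L01.Unip.Main
import Groth.Agent.L01.MultConj.Descent
import Mathlib.LinearAlgebra.Eigenspace.Zero

/-!
# Groups whose points have a power prime to the characteristic that is unipotent
-/

set_option autoImplicit false

universe u

open TensorProduct WithConv
open Groth.L08 (fAct cf)

noncomputable section

namespace Groth.L01.Unip

variable {k : Type u} [Field k] {A : Type u} [CommRing A] [HopfAlgebra k A]

/-- Unipotent points kill each element with a uniform exponent. -/
theorem exists_uniform_bound (a : A) :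
    ∃ m, ∀ g : WithConv (A →ₐ[k] k), IsUnipPt g → ∀ n, m ≤ n → ((lin k A g - 1) ^ n).ofConv a = 0 := by
  obtain ⟨W, hW, haW, hsub⟩ := Groth.L08.exists_finite_subcomod (k := k) (A := A) (V := A) a
  letI := ComodSub.Comod.restr (HopfRep.Comod.regular k A) W hsub
  refine ⟨Module.finrank k W, fun g hg n hn => ?_⟩
  have hT : (HopfRep.Comod.act k A W g.ofConv - LinearMap.id : Module.End k W) = fAct W (lin k A g - 1).ofConv := by
    show _ = Groth.L08.fActL W ((lin k A g).ofConv - (1 : WithConv (A →ₗ[k] k)).ofConv)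
    rw [map_sub]
    show _ = fAct W (lin k A g).ofConv - fAct W (1 : WithConv (A →ₗ[k] k)).ofConv
    rw [Groth.L08.fAct_one]
    rfl
  have hnil := IsUnipPt.isNilpotent_act (V := W) hg
  rw [hT] at hnil
  have hd : (fAct W (lin k A g - 1).ofConv : Module.End k W) ^ Module.finrank k W = 0 := by
    have h := LinearMap.aeval_self_charpoly (fAct W (lin k A g - 1).ofConv : Module.End k W)
    rwa [hnil.charpoly_eq_X_pow_finrank, map_pow, Polynomial.aeval_X] at h
  have h0 : fAct W ((lin k A g - 1) ^ n).ofConv ⟨a, haW⟩ = 0 := by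
    rw [fAct_pow, ← Nat.sub_add_cancel hn, pow_add, hd, mul_zero, LinearMap.zero_apply]
  rw [← Groth.L08.AugGraded.counit_fAct (k := k) (A := A) ((lin k A g - 1) ^ n).ofConv a,
    show a = W.subtype ⟨a, haW⟩ from rfl,
    ← Groth.L08.fAct_comm_of_isComodHom (ComodSub.isComodHom_subtype _ W hsub), h0, map_zero, map_zero]

/-- In characteristic `p` a point with a unipotent `p`-power is unipotent. -/
theorem IsUnipPt.of_pow_char (p : ℕ) [hp : Fact p.Prime] [CharP k p] {g : WithConv (A →ₐ[k] k)} {b : ℕ}
    (h : IsUnipPt (g ^ p ^ b)) : IsUnipPt g := by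
  haveI : Nontrivial (WithConv (A →ₗ[k] k)) := ⟨0, 1, fun h => by
    simpa using congrArg (fun z : WithConv (A →ₗ[k] k) => z.ofConv 1) h⟩
  haveI : CharP (WithConv (A →ₗ[k] k)) p :=
    charP_of_injective_algebraMap (algebraMap k (WithConv (A →ₗ[k] k))).injective p
  intro a
  have hc : (lin k A g - 1) ^ p ^ b = lin k A (g ^ p ^ b) - 1 := by
    rw [sub_pow_char_pow_of_commute _ _ (Commute.one_right _), one_pow, map_pow]
  obtain ⟨D, hfin, haD, hD⟩ := Groth.L08.exists_finite_subcoalg (k := k) ({a} : Finset A)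
  obtain ⟨s, hs⟩ := Module.Finite.iff_fg.1 hfin
  choose m hm using h
  have hvan : ∀ d ∈ D, ((lin k A g - 1) ^ (p ^ b * s.sup m)).ofConv d = 0 := by
    rw [pow_mul, hc]
    intro d hd
    rw [← hs] at hd
    induction hd using Submodule.span_induction with
    | mem x hx => exact hm x _ (Finset.le_sup (Finset.mem_coe.1 hx))
    | zero => exact map_zero _
    | add x y _ _ hx hy => rw [map_add, hx, hy, add_zero]
    | smul c x _ hx => rw [map_smul, hx, smul_zero]
  refine ⟨p ^ b * s.sup m, fun n hn => ?_⟩
  rw [← Nat.sub_add_cancel hn, pow_add]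
  exact vanish_mul_left hD hvan _ a (haD (by simp))

variable [IsAlgClosed k] [Algebra.FiniteType k A]

/-- If an `N`-th power, `N` prime to the characteristic, of each point is unipotent then each point is. -/
theorem isUnipPt_of_forall_pow [IsDomain A] {N : ℕ} (hN : (N : k) ≠ 0)
    (h : ∀ g : WithConv (A →ₐ[k] k), IsUnipPt (g ^ N)) (g : WithConv (A →ₐ[k] k)) : IsUnipPt g := by
  haveI : IsNoetherianRing A := Algebra.FiniteType.isNoetherianRing k A
  refine isUnipPt_of_univ hN (fun a => ?_) g
  obtain ⟨m, hm⟩ := exists_uniform_bound (k := k) a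
  refine ⟨m, fun n hn => Groth.L01.MultConj.eq_zero_of_points' (k := k) (K := k) fun f => ?_⟩
  have h1 : postMap f ((univ k A ^ N - 1) ^ n) = (lin k A (toConv f ^ N) - 1) ^ n := by
    rw [map_pow, map_sub, map_pow, map_one, map_pow]
    rfl
  rw [← postMap_apply f, h1]
  exact hm _ (h _) n hn

end Groth.L01.Unip
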