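import Groth.Agent.L01.Unip.Engel
import Groth.Agent.L08.FlagGroup

/-!
# Unipotent points and locally nilpotent functionals
-/

set_option autoImplicit false

universe u v

open TensorProduct WithConv
open Groth.L08 (fAct cf)

noncomputable section

namespace Groth.L01.Unip

variable {k : Type u} [Field k] {A : Type v} [CommRing A] [Bialgebra k A]

/-- A locally nilpotent functional. -/
def LocNil (x : WithConv (A →ₗ[k] k)) : Prop := ∀ a, ∃ N, ∀ n, N ≤ n → (x ^ n).ofConv a = 0

variable (k A) in
/-- A point as a functional. -/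
def lin : WithConv (A →ₐ[k] k) →* WithConv (A →ₗ[k] k) where
  toFun g := toConv g.ofConv.toLinearMap
  map_one' := by
    refine WithConv.ofConv_injective (LinearMap.ext fun a => ?_)
    simp
  map_mul' g h := WithConv.ofConv_injective (LinearMap.ext fun a => by
    show (g * h).ofConv a = _
    rw [AlgHom.convMul_apply, LinearMap.convMul_apply]
    induction Coalgebra.comul (R := k) a with
    | zero => simp
    | add p q hp hq => simp [map_add, hp, hq]
    | tmul p q => simp)

theorem lin_apply (g : WithConv (A →ₐ[k] k)) (a : A) : (lin k A g).ofConv a = g.ofConv a := rfl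

/-- A unipotent point. -/
def IsUnipPt (g : WithConv (A →ₐ[k] k)) : Prop := LocNil (lin k A g - 1)

theorem locNil_of_isUnipotent (hU : HopfRep.IsUnipotent k A) {x : WithConv (A →ₗ[k] k)} (hx : x.ofConv 1 = 0) :
    LocNil x := by
  intro a
  obtain ⟨m, F, h0, hm, hs⟩ := Groth.L08.hasFlag_of_isUnipotent hU a
  have key : ∀ i, ∀ v ∈ F i, ((fAct A x.ofConv : Module.End k A) ^ i) v = 0 := by
    intro i
    induction i with
    | zero =>
      intro v hv
      rw [h0, Submodule.mem_bot] at hv
      simp [hv]
    | succ i ih =>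
      intro v hv
      rw [pow_succ, Module.End.mul_apply]
      refine ih _ ?_
      obtain ⟨g, rfl, hst⟩ := hs i
      have := hst v hv x.ofConv
      rwa [hx, zero_smul, sub_zero] at this
  refine ⟨m, fun n hn => ?_⟩
  rw [← Groth.L08.AugGraded.counit_fAct (k := k) (A := A) (x ^ n).ofConv a, fAct_pow,
    ← Nat.sub_add_cancel hn, pow_add, Module.End.mul_apply, key m a hm, map_zero, map_zero]

theorem isUnipPt_of_isUnipotent (hU : HopfRep.IsUnipotent k A) (g : WithConv (A →ₐ[k] k)) : IsUnipPt g := by
  refine locNil_of_isUnipotent hU ?_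
  show g.ofConv 1 - (1 : WithConv (A →ₗ[k] k)).ofConv 1 = 0
  rw [map_one]
  simp

theorem LocNil.comap {D : Type*} [CommRing D] [Bialgebra k D] {x : WithConv (A →ₗ[k] k)} (h : LocNil x)
    (f : D →ₗc[k] A) : LocNil (convMap f x) := by
  intro d
  obtain ⟨N, hN⟩ := h (f d)
  exact ⟨N, fun n hn => by rw [← map_pow, convMap_apply]; exact hN n hn⟩

theorem convMap_lin {D : Type*} [CommRing D] [Bialgebra k D] (f : D →ₐc[k] A) (g : A →ₐ[k] k) :
    convMap (f : D →ₗc[k] A) (lin k A (toConv g)) = lin k D (toConv (g.comp (f : D →ₐ[k] A))) :=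
  WithConv.ofConv_injective (LinearMap.ext fun _ => rfl)

theorem IsUnipPt.comap {D : Type*} [CommRing D] [Bialgebra k D] {g : WithConv (A →ₐ[k] k)} (h : IsUnipPt g)
    (f : D →ₐc[k] A) : IsUnipPt (toConv (g.ofConv.comp (f : D →ₐ[k] A))) := by
  have := LocNil.comap h (f : D →ₗc[k] A)
  rwa [map_sub, map_one, ← toConv_ofConv g, convMap_lin, toConv_ofConv] at this

/-- A unipotent point acts unipotently. -/
theorem IsUnipPt.isNilpotent_act {V : Type v} [AddCommGroup V] [Module k V] [HopfRep.Comod k A V]
    [Module.Finite k V] {g : WithConv (A →ₐ[k] k)} (h : IsUnipPt g) :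
    IsNilpotent (HopfRep.Comod.act k A V g.ofConv - LinearMap.id) := by
  let b := Module.finBasis k V
  choose N hN using fun i j => h (cf (A := A) (b.coord i) (b j))
  refine ⟨∑ i, ∑ j, N i j, ?_⟩
  have hT : (HopfRep.Comod.act k A V g.ofConv - LinearMap.id : Module.End k V) = fAct V (lin k A g - 1).ofConv := by
    show _ = Groth.L08.fActL V ((lin k A g).ofConv - (1 : WithConv (A →ₗ[k] k)).ofConv)
    rw [map_sub]
    show _ = fAct V (lin k A g).ofConv - fAct V (1 : WithConv (A →ₗ[k] k)).ofConv
    rw [Groth.L08.fAct_one]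
    rfl
  rw [hT, ← fAct_pow]
  refine b.ext fun j => ?_
  refine b.ext_elem fun i => ?_
  rw [LinearMap.zero_apply, map_zero, Finsupp.zero_apply, ← Module.Basis.coord_apply, ← Groth.L08.apply_cf]
  exact hN i j _ ((Finset.single_le_sum (fun j _ => Nat.zero_le (N i j)) (Finset.mem_univ j)).trans
    (Finset.single_le_sum (f := fun i => ∑ j, N i j) (fun i _ => Nat.zero_le _) (Finset.mem_univ i)))

end Groth.L01.Unip
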